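import Mathlib
import Cfsg.Agent.Lib.SM12.Model
import Cfsg.Agent.Lib.Yos.W0
import Cfsg.Agent.Lib.Yos.XBa

/-!
# The standard component `M₁₂`: interfaces (plans/SM12.md)
-/

set_option autoImplicit false
set_option maxRecDepth 100000

namespace CfsgLib.SM12

open Subgroup Cfsg CfsgLib.W2 CfsgLib.W2.TG CfsgLib.Tech CfsgLib.CosetEnum CfsgLib.Yos

/-- `g` is a 2-element. -/
abbrev Two {G : Type*} [Group G] (g : G) : Prop := ∃ k : ℕ, g ^ 2 ^ k = 1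

section small
variable {G : Type*} [Group G] {Y : Subgroup G}

theorem two_of_sq {g : G} (h : g * g = 1) : Two g := ⟨1, by rw [pow_one, sq, h]⟩

theorem Two.mul {x y : G} (c : x * y = y * x) (hx : Two x) (hy : Two y) : Two (x * y) := by
  obtain ⟨k, hk⟩ := hx
  obtain ⟨m, hm⟩ := hy
  exact ⟨k + m, by
    rw [Commute.mul_pow c, pow_add, pow_mul, hk, one_pow, mul_comm, pow_mul, hm, one_pow, one_mul]⟩

theorem Two.inv {x : G} (hx : Two x) : Two x⁻¹ := hx.imp fun _ h => by rw [inv_pow, h, inv_one]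

theorem Two.conj {x : G} (g : G) (hx : Two x) : Two (g * x * g⁻¹) :=
  hx.imp fun _ h => by rw [conj_pow, h, mul_one, mul_inv_cancel]

theorem Two.map {H : Type*} [Group H] (f : G →* H) {x : G} (hx : Two x) : Two (f x) :=
  hx.imp fun _ h => by rw [← map_pow, h, map_one]

/-- A 2-element of a group of odd order is trivial. -/
theorem eq_one_of_two (ho : Odd (Nat.card Y)) {y : G} (hy : y ∈ Y) (h : Two y) : y = 1 := by
  obtain ⟨k, hk⟩ := h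
  exact orderOf_eq_one_iff.1 (((Nat.coprime_two_right.2 (ho.of_dvd_nat (orderOf_dvd_natCard _ hy))).pow_right
    k).eq_one_of_dvd (orderOf_dvd_of_pow_eq_one hk))

/-- If `u` and `y u` are 2-elements then `y = 1`. -/
theorem eq_one_of_mul (ho : Odd (Nat.card Y)) {y u : G} (hy : y ∈ Y) (c : u * y = y * u) (hu : Two u)
    (h : Two (y * u)) : y = 1 :=
  eq_one_of_two ho hy (by
    simpa using h.mul (y := u⁻¹) (by rw [mul_inv_cancel_right, ← c, inv_mul_cancel_left]) hu.inv)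

end small

/-- The embedding of `HM`. -/
noncomputable def em : HM →* HT :=
  homOf (gs := [o 2, o 8, o 32, o 64]) (D := 4) (by decide +kernel) (fun a => o a.v) rfl (by decide +kernel)

theorem em_apply (a : HM) : em a = o a.v := rfl

/-- The action of `HT` on `HM`. -/
noncomputable def cT (h : HT) (a : HM) : HM := o (h * o a.v * h⁻¹).v

/-- Coordinates in `M₁₂` and its automorphism group; `z = 1`, `s = 2`, `a = 8`, `c = 192`. -/
structure AutF (φ : HM →* Spor.M12) (σ : Spor.M12) (η : HT →* MulAut Spor.M12) : Prop where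
  inj : Function.Injective φ
  range : φ.range = Cx (φ (o 1))
  s3 : σ * σ * σ = 1
  rel : ∀ p ∈ [(1, 2), (2, 3), (4, 46), (8, 8), (32, 4)], W2.Rel φ σ (o p.1) (o p.2)
  qinv : φ (o 16) * σ * φ (o 16) = σ⁻¹
  gen : ∀ H : Subgroup Spor.M12, φ.range ≤ H → σ ∈ H → H = ⊤
  ηinj : Function.Injective η
  inn : ∀ a, η (em a) = MulAut.conj (φ a)
  act : ∀ h a, η h (φ a) = φ (cT h a)
  cs : η (o 192) σ = σ
  cent : ∀ ψ : MulAut Spor.M12, ψ (φ (o 1)) = φ (o 1) → ψ ∈ η.range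
  two : ∀ ψ : MulAut Spor.M12, ∃ m, ψ = MulAut.conj m ∨ ψ = MulAut.conj m * η (o 192)
  cls : ∀ ψ : MulAut Spor.M12, ψ * ψ = 1 → ψ ≠ 1 → ∃ α, ∃ k ∈ [1, 8, 192], α * ψ * α⁻¹ = η (o k)
  sylA : ∀ X : Subgroup (MulAut Spor.M12), IsPGroup 2 X → X ≤ Cx (η (o 8)) →
    ∃ α ∈ Cx (η (o 8)), ∀ x ∈ X, α * x * α⁻¹ ∈ η.range
  sylC : ∀ X : Subgroup (MulAut Spor.M12), IsPGroup 2 X → X ≤ Cx (η (o 192)) →
    ∀ x ∈ X, ∀ y ∈ X, x * y = y * x

variable {G : Type*} [Group G]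

/-- `g` induces the automorphism `ψ` on the image of `ι`. -/
def Act (ι : Spor.M12 →* G) (g : G) (ψ : MulAut Spor.M12) : Prop := ∀ m, g * ι m * g⁻¹ = ι (ψ m)

/-- Two copies of `M₁₂` whose centralisers are in general position. -/
structure Pr (ι κ : Spor.M12 →* G) : Prop where
  inj : Function.Injective ι
  inj' : Function.Injective κ
  n : ∀ t ∈ centralizer (ι.range : Set G), t * t = 1 → t ≠ 1 → Cx t ≤ normalizer (ι.range : Set G)
  n' : ∀ t ∈ centralizer (κ.range : Set G), t * t = 1 → t ≠ 1 → Cx t ≤ normalizer (κ.range : Set G)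
  od : ∀ x ∈ centralizer (ι.range : Set G), x ∈ centralizer (κ.range : Set G) → Two x → x = 1
  nle : ¬ ι.range ≤ centralizer (κ.range : Set G)

/-- The centraliser of `e` normalises the image of `ι`, whose centraliser in it is `Y × ⟨e⟩`. -/
structure St (e : G) (ι : Spor.M12 →* G) (Y : Subgroup G) : Prop where
  inj : Function.Injective ι
  ee : e * e = 1
  ne : e ≠ 1
  le : ι.range ≤ Cx e
  act : ∀ g ∈ Cx e, ∃ ψ, Act ι g ψ
  odd : Odd (Nat.card Y)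
  eY : Y ≤ Cx e
  cY : ∀ m, ∀ y ∈ Y, ι m * y = y * ι m
  nY : Cx e ≤ normalizer (Y : Set G)
  ker : ∀ g ∈ Cx e, (∀ m, g * ι m = ι m * g) → g ∈ Y ∨ g * e ∈ Y

/-- The frame: `b` says that `c` induces the outer automorphism. -/
structure Fr0 (e : G) (φ : HM →* G) (σ : G) (Y L : Subgroup G) (c : G) (b : Prop) : Prop where
  inj : Function.Injective φ
  ee : e * e = 1
  eL : e ∉ L
  Le : L ≤ Cx e
  rng : ∀ g, g ∈ φ.range ↔ g ∈ L ∧ g ∈ Cx (φ (o 1))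
  sylL : ¬ 128 ∣ Nat.card L
  sL : σ ∈ L
  s3 : σ * σ * σ = 1
  rel : ∀ p ∈ [(1, 2), (2, 3), (4, 46), (8, 8), (32, 4)], W2.Rel φ σ (o p.1) (o p.2)
  qinv : φ (o 16) * σ * φ (o 16) = σ⁻¹
  odd : Odd (Nat.card Y)
  eY : Y ≤ Cx e
  cY : ∀ l ∈ L, ∀ y ∈ Y, l * y = y * l
  nY : Cx e ≤ normalizer (Y : Set G)
  ce : c ∈ Cx e
  cs : c * σ = σ * c
  crel : b → ∀ a, W2.Rel φ c a (cT (o 192) a)
  cent : ∀ g ∈ Cx e, g ∈ Cx (φ (o 1)) → ∃ y ∈ Y, ∃ a, ∃ i < 2,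
    g = y * φ a * e ^ i ∨ (b ∧ g = y * φ a * c * e ^ i)
  inner : ¬ b → ∀ g ∈ Cx e, ∃ y ∈ Y, ∃ l ∈ L, g = y * l ∨ g = y * l * e

/-- The split frame. -/
structure Fr (e : G) (φ : HM →* G) (σ : G) (Y L : Subgroup G) (c : G) (b : Prop) : Prop
    extends Fr0 e φ σ Y L c b where
  cc : c * c = 1

/-- `π` has a central kernel of odd order. -/
structure Cov {H Γ : Type*} [Group H] [Group Γ] (π : H →* Γ) : Prop where
  cen : ∀ k, π k = 1 → ∀ g, k * g = g * k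
  odd : Odd (Nat.card π.ker)

/-- The context `Yos.Ctx` modulo `Y` and up to the elements with `Out`. -/
structure GE {n : ℕ} {m : ℕ → ℕ → ℕ} {i : ℕ → ℕ} {h : TOk n m i} (φ : TG h →* G) (σ : G) (Y : Subgroup G)
    (Out : G → Prop) (xp xq : ℕ) : Prop where
  inj : Function.Injective φ
  odd : Odd (Nat.card Y)
  cY : ∀ a, ∀ y ∈ Y, φ a * y = y * φ a
  sY : ∀ y ∈ Y, σ * y = y * σ
  cent : ∀ g ∈ Cx (φ (o 32)), g ∈ Cx (φ (o 1)) →
    (∃ y ∈ Y, ∃ a : TG h, a.v % 512 < 64 ∧ g = y * φ a) ∨ Out g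
  s3 : σ * σ * σ = 1
  rel : ∀ p ∈ [(1, 2), (2, 3), (4, 526), (8, 8), (32, 32), (512, 4), (64, xp), (xp, xq)],
    W2.Rel φ σ (o p.1) (o p.2)

/-- `g` acts as `n θ`. -/
def OutW (φ : NW →* G) (g : G) : Prop :=
  ∃ n : NW, n.v % 512 < 64 ∧ ∀ a, W2.Rel φ g a (n * thW a * n⁻¹)

/-- The wreathed case. -/
abbrev GW (φ : NW →* G) (σ : G) (Y : Subgroup G) (δ : ℕ) : Prop :=
  GE φ σ Y (OutW φ) (128 + δ) (192 + δ)

/-- The case of `Co₃`. -/
abbrev GC (φ : NC →* G) (σ : G) (Y : Subgroup G) (δ : ℕ) : Prop :=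
  GE φ σ Y (fun _ => False) (678 + δ) (716 + δ)

/-- The case of `Aut Suz`. -/
structure GS (φ : NT →* G) (σ : G) (Y : Subgroup G) (δ : ℕ) : Prop
    extends GE φ σ Y (fun _ => False) (3789 - δ) (3759 - δ) where
  sc : W2.Rel φ σ (o 3072) (o 3072)

/-- The fusion data of `e = φ (o 32)`. -/
structure Fu {n : ℕ} {m : ℕ → ℕ → ℕ} {i : ℕ → ℕ} {h : TOk n m i} (φ : TG h →* G) : Prop where
  nc : ¬ IsConj (φ (o 32)) (φ (o 1))
  syl : ¬ 512 ∣ Nat.card (Cx (φ (o 32)))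

/-! ### The case of `Aut Suz` -/

/-- The group `J` of order 512. -/
abbrev InJS (a : NT) : Prop := a.v % 3072 < 1024 ∧ a.v % 512 < 256 ∧ a.v % 32 < 16

/-- The subgroup `O₀ = J ∩ O` of order 256. -/
abbrev InO (a : NT) : Prop := InJS a ∧ a.v / 32 % 2 = a.v / 64 % 2

/-- The 96 conjugates of `e` in `J`. -/
abbrev InD (a : NT) : Prop := a.v / 4 ∈ [8, 9, 16, 17, 136, 139, 144, 147, 169, 171, 177, 179, 776, 778, 784, 786,
  808, 811, 816, 819, 938, 939, 946, 947]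

noncomputable def VS : Subgroup NT := subG (fun a => a.v < 4) [o 1, o 2] 1 (by decide +kernel)

/-- A Sylow 2-subgroup of `C(e)`. -/
noncomputable def SS : Subgroup NT := subG (fun a => a.v % 3072 < 1024 ∧ a.v % 512 < 64)
  [o 2, o 4, o 8, o 16, o 32, o 512, o 3072] 4 (by decide +kernel)

/-- The elements `τ = (g₂ σ) ^ 6` and `τ' = σ τ σ⁻¹`. -/
structure Tau (φ : NT →* G) (Y : Subgroup G) (τ τ' : G) (ν : ℕ) : Prop where
  hν : ν < 2
  r1 : ∀ a, InJS a → W2.Rel φ τ a (tauS 1 a)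
  r2 : ∀ a, InJS a → W2.Rel φ τ' a (tauS 2 a)
  s1 : τ * τ = φ (o (2 * ν))
  s2 : τ' * τ' = φ (o (3 * ν))
  cm : τ * τ' = τ' * τ
  y1 : ∀ y ∈ Y, τ * y = y * τ
  y2 : ∀ y ∈ Y, τ' * y = y * τ'

/-- The group `O = O₀ ⟨τ, τ'⟩` is the image of `Φ`. -/
structure OF (φ : NT →* G) (τ τ' : G) (ν : ℕ) (Φ : OG →* G) : Prop where
  inj : Function.Injective Φ
  v : ∀ k < 4, Φ (o k) = φ (o k)
  mem : ∀ g, g ∈ Φ.range ↔ ∃ j, InO j ∧ ∃ a < 2, ∃ b < 2, g = φ j * τ ^ a * τ' ^ b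
  e : ∀ u, W2.Rel Φ (φ (o 32)) u (eO ν u)

/-! ### The case of `Co₃` -/

/-- The hypotheses of the case of `Co₃`. -/
structure GN (φ : NC →* G) (σ : G) (Y : Subgroup G) (δ : ℕ) : Prop
    extends GE φ σ Y (fun _ => False) (678 + δ) (716 + δ) where
  nc : ¬ IsConj (φ (o 32)) (φ (o 1))
  syl : ¬ 256 ∣ Nat.card (Cx (φ (o 32)))
  nY : Cx (φ (o 32)) ≤ normalizer (Y : Set G)

/-- The image of the model in `C(z) / ⟨z⟩`, where `N(Y) / Y` satisfies `BCtx`. -/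
structure BY {Γ A : Type*} [Group Γ] [Group A] (ψ : NC →* Γ) (Y : Subgroup Γ)
    (π : normalizer (Y : Set Γ) →* A) (χ : NC →* A) : Prop where
  ker : ∀ a, ψ a = 1 ↔ a = 1 ∨ a = o 1
  syl : ¬ 1024 ∣ Nat.card Γ
  sc : ∀ g ∈ Cx (ψ (o 96)), ∀ a b, InN a → b.v < 1024 → W2.Rel ψ g a b → InN b
  odd : Odd (Nat.card Y)
  cY : ∀ a, ∀ y ∈ Y, ψ a * y = y * ψ a
  uf : ∀ d : NC, d * d = 1 → d ≠ 1 → ¬ IsZ d → ∀ g, g * ψ d * g⁻¹ ∈ normalizer (Y : Set Γ) →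
    g ∈ normalizer (Y : Set Γ)
  surj : Function.Surjective π
  kerπ : ∀ g, π g = 1 ↔ g.1 ∈ Y
  val : ∀ a h, χ a = π ⟨ψ a, h⟩
  B : BCtx χ

end CfsgLib.SM12
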