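import Mathlib
import Cfsg.Agent.Lib.SM12.Defs
import Cfsg.Agent.Lib.Yos.C3
import Cfsg.Agent.Lib.Invol.Dihedral

/-! Package NCC: the centraliser of `α` normalises `Y` (plans/SM12.md). -/

set_option autoImplicit false
set_option maxRecDepth 100000
set_option synthInstance.maxSize 4096

namespace CfsgLib.SM12

open Subgroup Cfsg CfsgLib.W2 CfsgLib.W2.TG CfsgLib.Tech CfsgLib.CosetEnum CfsgLib.Yos

section general
variable {G : Type*} [Group G] [Finite G]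

/-- A four-group on a section of odd order. -/
theorem le_of_four_mod' {N B M : Subgroup G} (hS : IsSylowIn 2 N B) (hBN : B ≤ normalizer (N : Set G))
    (hM : N ≤ M) {a b : G} (ha : a * a = 1) (hb : b * b = 1) (hc : a * b = b * a) (a1 : a ∉ N)
    (b1 : b ∉ N) (ab : a * b ∉ N) (aN : a ∈ normalizer (N : Set G)) (bN : b ∈ normalizer (N : Set G))
    (aB : a ∈ normalizer (B : Set G)) (bB : b ∈ normalizer (B : Set G))
    (h : ∀ d, d = a ∨ d = b ∨ d = a * b → ∀ x ∈ B, x * d * x⁻¹ * d⁻¹ ∈ N → x ∈ M) : B ≤ M := by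
  set H := normalizer (N : Set G) with hH
  let f := QuotientGroup.mk' (N.subgroupOf H)
  have hk : ∀ x : H, f x = 1 ↔ (x : G) ∈ N := fun x => QuotientGroup.eq_one_iff x
  have hD : Odd (Nat.card ((B.subgroupOf H).map f)) := by
    rw [← relIndex_ker, QuotientGroup.ker_mk', relIndex_subgroupOf hBN, ← Nat.not_even_iff_odd,
      even_iff_two_dvd]
    exact hS.not_dvd
  have h1 : ∀ d : H, (d : G) ∈ normalizer (B : Set G) →
      f d ∈ normalizer ((B.subgroupOf H).map f : Set _) := fun d hd => mem_normalizer_of_forall (by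
    rintro _ ⟨x, hx, rfl⟩
    exact ⟨d * x * d⁻¹, conj_mem_of_mem_normalizer (x := (x : G)) hd hx, by simp only [map_mul, map_inv]⟩)
  have h2 : ∀ d : H, (d : G) * d = 1 → (d : G) ∉ N → orderOf (f d) = 2 := fun d e hd =>
    ord_two (by rw [← map_mul, show d * d = 1 from Subtype.ext e, map_one]) fun e' => hd ((hk d).1 e')
  have h3 : ∀ d : H, ((d : G) = a ∨ (d : G) = b ∨ (d : G) = a * b) →
      (B.subgroupOf H).map f ⊓ Cx (f d) ≤ (M.subgroupOf H).map f := by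
    rintro d hd _ ⟨⟨x, hx, rfl⟩, e⟩
    refine ⟨x, h d hd x hx ((hk (x * d * x⁻¹ * d⁻¹)).1 ?_), rfl⟩
    rw [map_mul, map_mul, map_mul, map_inv, map_inv, mem_Cx'.1 e, mul_inv_cancel]
  have h5 := h3 (⟨a, aN⟩ * ⟨b, bN⟩) (Or.inr (Or.inr rfl))
  rw [map_mul] at h5
  have h4 := le_of_four hD (h2 ⟨a, aN⟩ ha a1) (h2 ⟨b, bN⟩ hb b1) (fun e => ab ((hk (⟨a, aN⟩ * ⟨b, bN⟩)).1
      (by rw [map_mul, e, ← map_mul, show (⟨b, bN⟩ : H) * ⟨b, bN⟩ = 1 from Subtype.ext hb, map_one])))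
    (by rw [← map_mul, ← map_mul]; exact congrArg f (Subtype.ext hc)) (h1 _ aB) (h1 _ bB)
    (h3 _ (Or.inl rfl)) (h3 _ (Or.inr (Or.inl rfl))) h5
  intro x hx
  obtain ⟨m, hm, e⟩ := h4 ⟨⟨x, hBN hx⟩, hx, rfl⟩
  have := hM ((hk (m⁻¹ * (⟨x, hBN hx⟩ : H))).1 (by rw [map_mul, map_inv, e, inv_mul_cancel]))
  exact (M.mul_mem_cancel_left (inv_mem hm)).1 this

/-- Goldschmidt: the involutions of `S ∩ ⟨A^G⟩` lie in `A`. -/
theorem gold_top' (S : Sylow 2 G) {A : Subgroup G} (h2 : ∀ a ∈ A, a * a = 1)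
    (hsc : IsStronglyClosed A (S : Subgroup G)) {j : G} (hS : j ∈ (S : Subgroup G))
    (hj : j ∈ normalClosure (A : Set G)) (jj : j * j = 1) : j ∈ A := by
  let f := QuotientGroup.mk' (pPrimeCore 2 (normalClosure (A : Set G)))
  obtain ⟨-, -, ⟨T, -, h4⟩, -⟩ := Cfsg.Agent.S2775.result S A
    ⟨⟨fun x y => Subtype.ext (comm_of_sq h2 x.2 y.2)⟩⟩ hsc _ rfl _ f
    (QuotientGroup.mk'_surjective _) (QuotientGroup.ker_mk' _)
  have j2 : (⟨j, hj⟩ : normalClosure (A : Set G)) * ⟨j, hj⟩ = 1 := Subtype.ext jj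
  obtain ⟨n, -, hy⟩ := (IsSylowIn.of_sylow_top T).exists_conj_mem (mem_top (f ⟨j, hj⟩))
    (isPGroup_zpowers_of_pow (k := 1) (by rw [pow_one, sq, ← map_mul, j2, map_one]))
  obtain ⟨n, rfl⟩ := QuotientGroup.mk'_surjective _ n
  obtain ⟨a, ha, e⟩ := h4.ge (mem_sup_right (subset_closure ⟨hy, by
    rw [conj_pow, sq, ← map_mul, j2, map_one, mul_one, mul_inv_cancel]⟩))
  have a2 : a * a = 1 := Subtype.ext (h2 _ ha)
  have h5 : a * (n * ⟨j, hj⟩ * n⁻¹) ∈ pPrimeCore 2 (normalClosure (A : Set G)) :=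
    (QuotientGroup.eq_one_iff _).1 (show f _ = 1 by
      rw [map_mul, map_mul f (n * _), map_mul f n, map_inv, ← e, ← map_mul, a2, map_one])
  obtain ⟨d, -, hd⟩ := Invol.exists_conj_of_odd a2 (by rw [conj_mul, j2, mul_one, mul_inv_cancel])
    ((Nat.coprime_two_right.1 (Core.coprime_card_pPrimeCore 2 _)).of_dvd_nat (orderOf_dvd_natCard _ h5))
  have h6 : ((n : G)⁻¹ * d) * a * ((n : G)⁻¹ * d)⁻¹ = j := by
    have : (d : G) * a * (d : G)⁻¹ = n * j * (n : G)⁻¹ := congrArg Subtype.val hd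
    calc _ = (n : G)⁻¹ * ((d : G) * a * (d : G)⁻¹) * n := by group
      _ = j := by rw [this]; group
  exact h6 ▸ hsc.2 _ ha _ (h6 ▸ hS)

theorem gold_in' {K S A : Subgroup G} (hS : IsSylowIn 2 S K) (h2 : ∀ a ∈ A, a * a = 1) (hA : A ≤ S)
    (sc : ∀ k ∈ K, ∀ a ∈ A, k * a * k⁻¹ ∈ S → k * a * k⁻¹ ∈ A) :
    ∃ L, A ≤ L ∧ L ≤ K ∧ K ≤ normalizer (L : Set G) ∧ ∀ j ∈ S, j ∈ L → j * j = 1 → j ∈ A := by
  refine ⟨(normalClosure (A.subgroupOf K : Set K)).map K.subtype, fun a ha =>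
    ⟨⟨a, hS.le (hA ha)⟩, le_normalClosure (show _ ∈ A.subgroupOf K from ha), rfl⟩, map_subtype_le _,
    Core.le_normalizer_map_subtype_of_normal _, ?_⟩
  rintro _ hj ⟨j, hj', rfl⟩ jj
  exact gold_top' hS.toSylow (A := A.subgroupOf K) (fun a ha => Subtype.ext (h2 _ ha))
    ⟨fun a ha => hA ha, fun a ha k hk => sc k k.2 a ha hk⟩ hj hj' (Subtype.ext jj)

end general

variable {Γ A : Type*} [Group Γ] [Finite Γ] [Group A] [Finite A] {ψ : NC →* Γ} {Y : Subgroup Γ}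
  {π : normalizer (Y : Set Γ) →* A} {χ : NC →* A}

namespace BY

section
omit [Finite Γ] [Finite A]
variable (B : BY ψ Y π χ)
include B

theorem eqz {a b : NC} : ψ a = ψ b ↔ a = b ∨ a = b * o 1 := by
  rw [eq_comm, ← inv_mul_eq_one, ← map_inv, ← map_mul, B.ker, inv_mul_eq_one, inv_mul_eq_iff_eq_mul,
    eq_comm]

theorem eq_iff {a b : NC} : ψ a = ψ b ↔ χ a = χ b := B.eqz.trans B.B.eqz.symm

theorem mem_map {X : Subgroup NC} {a : NC} : ψ a ∈ X.map ψ ↔ χ a ∈ X.map χ :=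
  exists_congr fun _ => and_congr_right fun _ => B.eq_iff

theorem mem_N {a : NC} : ψ a ∈ N0.map ψ ↔ InN a := B.mem_map.trans B.B.mem_N

theorem mem_T {a : NC} : ψ a ∈ T0.map ψ ↔ a.v < 1024 := B.mem_map.trans B.B.mem_T

theorem mem_K (a : NC) : ψ a ∈ Cx (ψ (o 96)) := by
  rw [mem_Cx, ← map_mul, ← map_mul, B.eq_iff, map_mul, map_mul]
  exact mem_Cx.1 (B.B.mem_K a)

theorem sqN : ∀ x ∈ N0.map ψ, x * x = 1 := by
  rintro _ ⟨a, ha, rfl⟩
  rw [← map_mul, ← map_one ψ, B.eq_iff, map_mul, map_one]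
  exact B.B.sqN _ ⟨a, ha, rfl⟩

theorem inf_le {X : Subgroup Γ} (hN : N0.map ψ ≤ X) (h : ∀ c ∈ repT, ψ (o c) ∈ X → c = 0) :
    T0.map ψ ⊓ X = N0.map ψ := by
  refine le_antisymm ?_ (le_inf (map_mono N0_le_T0) hN)
  rintro _ ⟨⟨a, ha, rfl⟩, hx⟩
  obtain ⟨c, hc, h1⟩ := (by decide +kernel : ∀ a : NC, a.v < 1024 → LE repT fun c => InN (a * (o c)⁻¹)) a ha
  have h2 := hN (B.mem_N.2 h1)
  rw [map_mul, map_inv, X.mul_mem_cancel_left hx, inv_mem_iff] at h2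
  rw [h c hc h2, (by decide +kernel : (o 0 : NC)⁻¹ = 1), mul_one] at h1
  exact B.mem_N.2 h1

theorem uf' : ∀ d ∈ [8, 16, 24], ∀ g, g * ψ (o d) * g⁻¹ ∈ normalizer (Y : Set Γ) →
    g ∈ normalizer (Y : Set Γ) := fun d hd =>
  have := (by decide +kernel : ∀ d ∈ [8, 16, 24], (o d * o d : NC) = 1 ∧ (o d : NC) ≠ 1 ∧ ¬ IsZ (o d)) d hd
  B.uf _ this.1 this.2.1 this.2.2

theorem mem_P (a : NC) : ψ a ∈ normalizer (Y : Set Γ) :=
  centralizer_le_normalizer _ (mem_centralizer_iff.2 fun y hy => (B.cY a y hy).symm)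

theorem e24 : ψ (o 8) * ψ (o 16) = ψ (o 24) := by
  rw [← map_mul, (by decide +kernel : (o 8 * o 16 : NC) = o 24)]

theorem img_le {X : Subgroup Γ} (h : X ≤ Cx (ψ (o 96))) :
    (X.subgroupOf (normalizer (Y : Set Γ))).map π ≤ Cx (χ (o 96)) := by
  rintro _ ⟨x, hx, rfl⟩
  rw [mem_Cx, B.val _ (B.mem_P _), ← map_mul, ← map_mul]
  exact congrArg π (Subtype.ext (mem_Cx.1 (h hx)))

theorem img_N : ((N0.map ψ).subgroupOf (normalizer (Y : Set Γ))).map π = N0.map χ := by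
  ext g
  exact ⟨fun ⟨⟨_, h⟩, ⟨a, ha, e⟩, e'⟩ => ⟨a, ha, by subst e e'; exact B.val a h⟩,
    fun ⟨a, ha, e⟩ => ⟨⟨_, B.mem_P a⟩, ⟨a, ha, rfl⟩, (B.val a _).symm.trans e⟩⟩

end

omit [Finite Γ] in
theorem img_norm {X : Subgroup Γ} {g : normalizer (Y : Set Γ)} (h : g.1 ∈ normalizer (X : Set Γ)) :
    π g ∈ normalizer ((X.subgroupOf (normalizer (Y : Set Γ))).map π : Set A) :=
  mem_normalizer_of_forall (by
    rintro _ ⟨x, hx, rfl⟩
    exact ⟨g * x * g⁻¹, conj_mem_of_mem_normalizer (x := x.1) h hx, by simp only [map_mul, map_inv]⟩)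

variable (B : BY ψ Y π χ)
include B

omit [Finite A] in
theorem sylK : IsSylowIn 2 (T0.map ψ) (Cx (ψ (o 96))) := by
  have h1 : Nat.card T0 = 1024 := card_subG.trans (by decide +kernel)
  have h2 := B.B.card_map (X := T0) (mem_T0.2 (by decide +kernel))
  rw [← relIndex_ker, show χ.ker = ψ.ker from Subgroup.ext fun a => (B.B.ker a).trans (B.ker a).symm,
    relIndex_ker] at h2
  refine IsSylowIn.of_le (H := ⊤) ⟨le_top, (IsPGroup.of_card (n := 10) h1).map ψ, fun ⟨k, hk⟩ =>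
    B.syl ⟨k, ?_⟩⟩ (by rintro _ ⟨a, -, rfl⟩; exact B.mem_K a) le_top
  have h3 := card_mul_relIndex' (le_top : T0.map ψ ≤ ⊤)
  rw [card_top, hk, show Nat.card (T0.map ψ) = 512 by omega] at h3
  omega

theorem nN (a : NC) : ψ a ∈ normalizer (N0.map ψ : Set Γ) := mem_normalizer_of_forall (by
  rintro _ ⟨b, hb, rfl⟩
  rw [← map_inv, ← map_mul, ← map_mul, B.mem_map, map_mul, map_mul, map_inv]
  exact conj_mem_of_mem_normalizer (B.B.normal (B.B.mem_K a)) ⟨b, hb, rfl⟩)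

theorem four {D : Subgroup Γ} (hD : D ≤ Cx (ψ (o 96))) (h : Odd (Nat.card D))
    (hn : ∀ a, ψ a ∈ normalizer (D : Set Γ)) : D ≤ Y := by
  have h3 : ∀ d ∈ [8, 16, 24], D ⊓ Cx (ψ (o d)) ≤ normalizer (Y : Set Γ) := fun d hd g hg =>
    B.uf' d hd g (by rw [mem_Cx'.1 hg.2]; exact B.mem_P _)
  have h4 : ∀ d ∈ [8, 16], orderOf (ψ (o d)) = 2 := fun d hd => ord_two
    (by rw [← map_mul, B.ker]; revert d; decide +kernel) (by rw [Ne, B.ker]; revert d; decide +kernel)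
  have h5 := le_of_four h (h4 8 (by simp)) (h4 16 (by simp))
    (by rw [Ne, B.eqz]; decide +kernel) (by rw [← map_mul, ← map_mul, B.eqz]; decide +kernel) (hn _) (hn _)
    (h3 8 (by simp)) (h3 16 (by simp)) (B.e24 ▸ h3 24 (by simp))
  have h6 := B.B.four (B.img_le hD) (h.of_dvd_nat ((card_map_dvd _ _).trans
    (Nat.card_congr (subgroupOfEquivOfLe h5).toEquiv).dvd))
    (B.val _ (B.mem_P _) ▸ img_norm (hn _)) (B.val _ (B.mem_P _) ▸ img_norm (hn _))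
  exact fun x hx => (B.kerπ ⟨x, h5 hx⟩).1 (mem_bot.1 (h6.le ⟨_, hx, rfl⟩))

theorem lemB {X : Subgroup Γ} (hS : IsSylowIn 2 (N0.map ψ) X) (hK : X ≤ Cx (ψ (o 96)))
    (hN : X ≤ normalizer (N0.map ψ : Set Γ)) (hn : ∀ a, ψ a ∈ normalizer (X : Set Γ)) :
    X ≤ centralizer (N0.map ψ : Set Γ) := by
  have hP : N0.map ψ ≤ normalizer (Y : Set Γ) := by rintro _ ⟨a, -, rfl⟩; exact B.mem_P a
  have h4 : ∀ d ∈ [8, 16, 24], ∀ x ∈ X, x * ψ (o d) * x⁻¹ * (ψ (o d))⁻¹ ∈ N0.map ψ →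
      x ∈ normalizer (Y : Set Γ) := fun d hd x _ e =>
    B.uf' d hd x ((mul_mem_cancel_right (inv_mem (B.mem_P _))).1 (hP e))
  have h5 := le_of_four_mod' hS hN hP (a := ψ (o 8)) (b := ψ (o 16))
    (by rw [← map_mul, B.ker]; decide +kernel)
    (by rw [← map_mul, B.ker]; decide +kernel) (by rw [← map_mul, ← map_mul, B.eqz]; decide +kernel)
    (by rw [B.mem_N]; decide +kernel) (by rw [B.mem_N]; decide +kernel)
    (by rw [B.e24, B.mem_N]; decide +kernel) (B.nN _) (B.nN _) (hn _) (hn _) (by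
      rintro d (rfl | rfl | rfl)
      exacts [h4 8 (by simp), h4 16 (by simp), B.e24 ▸ h4 24 (by simp)])
  have h6 := B.B.lemB (X := (X.subgroupOf (normalizer (Y : Set Γ))).map π) (B.img_N ▸
    ⟨map_mono fun _ hx => hS.le hx, hS.pgroup.comap_subtype.map π, fun e => hS.not_dvd (e.trans (by
      rw [← relIndex_comap, ← relIndex_subgroupOf h5]
      exact relIndex_dvd_of_le_left _ (le_comap_map π _)))⟩) (B.img_le hK)
    (by rintro _ ⟨x, hx, rfl⟩; exact B.img_N ▸ img_norm (hN hx))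
    (B.val _ (B.mem_P _) ▸ img_norm (hn _)) (B.val _ (B.mem_P _) ▸ img_norm (hn _))
  intro x hx
  obtain ⟨a, ha, e⟩ := h6 ⟨⟨x, h5 hx⟩, hx, rfl⟩
  have h7 := (B.kerπ (⟨_, B.mem_P a⟩⁻¹ * ⟨x, h5 hx⟩)).1 (by
    rw [map_mul, map_inv, ← B.val, e, inv_mul_cancel])
  refine (mul_mem_cancel_left (inv_mem (mem_centralizer_iff.2 fun y hy =>
    comm_of_sq B.sqN hy ⟨a, ha, rfl⟩))).1 (mem_centralizer_iff.2 ?_)
  rintro _ ⟨b, -, rfl⟩
  exact B.cY b _ h7

theorem normal : Cx (ψ (o 96)) ≤ normalizer (N0.map ψ : Set Γ) := by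
  obtain ⟨L, h1, h2, h3, h4⟩ := gold_in' B.sylK B.sqN (map_mono N0_le_T0) (by
      rintro k hk _ ⟨a, ha, rfl⟩ ⟨b, hb, e⟩
      exact e ▸ B.mem_N.2 (B.sc k hk a b ha hb e.symm))
  have h5 := B.sylK.inf_of_le_normalizer h3
  rw [inf_eq_right.2 h2, B.inf_le h1 fun c hc h => ?_] at h5
  · have h7 := B.lemB (h5.of_le (le_inf h1 le_normalizer) inf_le_left) (inf_le_left.trans h2) inf_le_right
      fun a => mem_normalizer_iff_cj.2 (by
        rw [cj_inf, mem_normalizer_iff_cj.1 (h3 (B.mem_K _)), cj_eq_of_mem (B.nN a)])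
    have h8 := PComp.normalizer_le_normalizer_opOf (p := 2) L
    have h9 := le_of_npc (npc_of_burnside h5 fun n hn hn' x hx =>
      (mem_centralizer_iff.1 (h7 ⟨hn, hn'⟩) x hx).symm) h5 (M := normalizer (N0.map ψ : Set Γ))
      ((B.four ((PComp.opOf_le L).trans h2) (W2.odd_card_opOf L) fun a => h8 (h3 (B.mem_K _))).trans
        fun y hy => centralizer_le_normalizer _ (mem_centralizer_iff.2 (by
          rintro _ ⟨b, -, rfl⟩; exact B.cY b y hy))) le_normalizer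
    exact fun k hk => mem_normalizer_of_cj_le (h5.le_of_normalizes (isPGroup_cj k h5.pgroup)
      (h5.cj_of_mem_normalizer (h3 hk)).le ((h5.cj_of_mem_normalizer (h3 hk)).le.trans h9))
  · have h6 : ∀ a : NC, ψ a ∈ L → a.v < 1024 → (a * a = 1 ∨ a * a = o 1) → InN a := fun a ha h7 h8 =>
      B.mem_N.1 (h4 _ (B.mem_T.2 h7) ha (by rwa [← map_mul, B.ker]))
    rcases (by decide +kernel : LA repT fun c => c = 0 ∨ LE [(o c : NC), o c * o c] fun a => a.v < 1024 ∧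
      (a * a = 1 ∨ a * a = o 1) ∧ ¬ InN a) c hc with e | ⟨a, ha, h7, h8, h9⟩
    · exact e
    · refine absurd (h6 a ?_ h7 h8) h9
      simp only [List.mem_cons, List.not_mem_nil, or_false] at ha
      rcases ha with rfl | rfl
      exacts [h, map_mul ψ _ _ ▸ mul_mem h h]

end BY

theorem BY.cent_le (B : BY ψ Y π χ) : Cx (ψ (o 96)) ≤ normalizer (Y : Set Γ) := by
  have h1 : Cx (ψ (o 96)) ≤ normalizer (centralizer (N0.map ψ : Set Γ) : Set Γ) := fun k hk =>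
    mem_normalizer_iff_cj.2 (by rw [cj_centralizer, mem_normalizer_iff_cj.1 (B.normal hk)])
  have h2 := B.sylK.inf_of_le_normalizer h1
  rw [B.inf_le (fun x hx => mem_centralizer_iff.2 fun y hy => comm_of_sq B.sqN hy hx) fun c hc h => ?_] at h2
  · have h3 : Cx (ψ (o 96)) ≤
        normalizer ((Cx (ψ (o 96)) ⊓ centralizer (N0.map ψ : Set Γ) : Subgroup Γ) : Set Γ) :=
      fun k hk => mem_normalizer_iff_cj.2 (by
        rw [cj_inf, cj_eq_of_mem hk, mem_normalizer_iff_cj.1 (h1 hk)])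
    refine fun k hk => mem_normalizer_of_forall fun y hy => B.four ((PComp.opOf_le _).trans inf_le_left)
      (W2.odd_card_opOf _) (fun a => PComp.normalizer_le_normalizer_opOf _ (h3 (B.mem_K a)))
      (mem_opOf_of_npc (npc_of_burnside h2 fun n hn _ x hx => (mem_centralizer_iff.1 hn.2 x hx).symm)
        (conj_mem_of_mem_normalizer (h3 hk) ⟨mem_Cx.2 (B.cY _ y hy).symm, mem_centralizer_iff.2 ?_⟩) ?_)
    · rintro _ ⟨b, -, rfl⟩
      exact B.cY b y hy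
    · rw [ord_conj]
      exact Nat.coprime_two_right.2 (B.odd.of_dvd_nat (orderOf_dvd_natCard _ hy))
  · rcases (by decide +kernel : LA repT fun c => c = 0 ∨ LE [2, 4, 168, 304] fun n => InN (o n) ∧
      ¬ ((o n * o c : NC) = o c * o n ∨ (o n * o c : NC) = o c * o n * o 1)) c hc with e | ⟨n, -, h3, h4⟩
    · exact e
    · exact absurd (B.eqz.1 (by
        rw [map_mul, map_mul]; exact mem_centralizer_iff.1 h _ (B.mem_N.2 h3))) h4

end CfsgLib.SM12
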