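import Mathlib
import Cfsg.Agent.Lib.SM12.Defs
import Cfsg.Agent.Lib.Yos.A
import Cfsg.Agent.S2061

/-! Package AUT: coordinates in `Aut M₁₂` (plans/SM12.md). -/

set_option autoImplicit false
set_option maxRecDepth 100000
set_option synthInstance.maxSize 2000

namespace CfsgLib.SM12

open Subgroup Cfsg CfsgLib.W2 CfsgLib.W2.TG CfsgLib.Tech CfsgLib.CosetEnum CfsgLib.Yos

variable {φ : HM →* Spor.M12} {σ : Spor.M12} {η : HT →* MulAut Spor.M12}

namespace AutA

noncomputable def κ : Spor.M12 →* CG ok24 := (CG.eqv ok24).toMonoidHom.comp Spor.M12.subtype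

theorem hκ : Function.Injective κ := (CG.eqv ok24).injective.comp Subtype.val_injective

theorem κ_ev (w : List ℕ) : κ (ev gM w) = ev fM w := by
  rw [map_ev, show (fun j => κ (gM j)) = fM from funext fun j => Subtype.ext (code_gM j)]

theorem ev_inj {v w : List ℕ} (h : ev fM v = ev fM w) : ev gM v = ev gM w := hκ (by rw [κ_ev, κ_ev, h])

theorem conj_inj : Function.Injective (MulAut.conj : Spor.M12 →* _) := by
  rcases Mathieu.simple_M12.eq_bot_or_eq_top_of_normal (MulAut.conj : Spor.M12 →* _).ker inferInstance with e | e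
  · exact (MonoidHom.ker_eq_bot_iff _).1 e
  · have : MulAut.conj (ev gM [2]) = 1 := (e ▸ mem_top _ : ev gM [2] ∈ (MulAut.conj : Spor.M12 →* _).ker)
    have := congrArg κ (DFunLike.congr_fun this (ev gM [4]))
    simp only [MulAut.conj_apply, MulAut.one_apply, map_mul, map_inv, κ_ev] at this
    exact absurd this (by decide +kernel)

/-- The images of the generators under the outer automorphism. -/
def cw (j : ℕ) : List ℕ := [[0], [0, 2], [4], [4, 6], [8], [8, 10], [13], [14], [4, 16]].getD j []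

theorem exists_c : ∃ c : MulAut Spor.M12, c * c = 1 ∧ ∀ j < 9, c (gM j) = ev gM (cw j) := by
  obtain ⟨ψ, h, -⟩ := pM12_pres.exists_hom (g := fun j => ev gM (cw j)) (fun r hr => hκ (by
    rw [map_ev, map_one]
    simp only [κ_ev]
    revert r; decide +kernel)) gM_rels Mathieu.card_M12.ge gM_gen
  have h2 : ∀ j < 9, ψ (gM j) = ev gM (cw j) := fun j hj => map_single h j (by revert j; decide)
  have h3 : ∀ x, ψ (ψ x) = x := fun x => (gM_gen.ge.trans (gen_le.2 fun y hy => ?_) :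
    ⊤ ≤ (ψ.comp ψ).eqLocus (MonoidHom.id _)) (mem_top x)
  · exact ⟨⟨⟨ψ, ψ, h3, h3⟩, ψ.map_mul⟩, MulEquiv.ext h3, h2⟩
  have k : ∀ w : List ℕ, (∀ x ∈ w, x / 2 ∈ List.range 9) → ψ (ev gM w) = ev (fun j => ev gM (cw j)) w :=
    fun w hw => (ev_eq_map ψ (fun i hi => h2 i (List.mem_range.1 hi)) hw).symm
  obtain ⟨j, hj, rfl⟩ : ∃ j < 9, y = [2 * j] := by revert y; decide
  change ψ (ψ _) = _
  rw [W2.ev_single, h2 j hj, k _ (by clear * - hj; revert j; decide), MonoidHom.id_apply, ← W2.ev_single gM]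
  refine hκ ?_
  rw [map_ev]
  simp only [κ_ev]
  clear * - hj; revert j; decide +kernel

theorem exists_φ : ∃ φ : HM →* Spor.M12, Cfg φ ∧ ∀ j < 7, φ (o ([2, 4, 8, 16, 1, 32, 64].getD j 0)) = gM j := by
  obtain ⟨φ, h, -⟩ := pHM_pres.exists_hom (g := gM)
    (f := gv [(o 2 : HM), o 4, o 8, o 16, o 1, o 32, o 64])
    (fun r hr => gM_rels r ((by decide +kernel : ∀ r ∈ sqW [0, 1, 2, 3, 4, 5] ++ pHM_rels,
      r ∈ sqW [0, 1, 2, 3, 4, 5] ++ pM12_rels) r hr)) (by decide +kernel) card_eq.ge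
    (eq_top_of_genB (gs := [o 2, o 8, o 32, o 64]) (D := 4) (by decide +kernel) (by
      simp only [List.forall_mem_cons]
      exact ⟨mem_gen_gv (i := 0) (by simp), mem_gen_gv (i := 2) (by simp),
        mem_gen_gv (i := 5) (by simp), mem_gen_gv (i := 6) (by simp), by simp⟩))
  have h0 : ∀ j < 7, φ (o ([2, 4, 8, 16, 1, 32, 64].getD j 0)) = gM j := fun j hj => by
    rw [← map_single h j (by revert j; decide)]
    interval_cases j <;> rfl
  have h1 : φ (o 1) = gM 4 := h0 4 (by norm_num)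
  have h2 : Function.Injective φ := injective_of_socle φ (z := o 1) (fun e => by
    have := κ_ev [8]
    rw [W2.ev_single gM 4, ← h1, e, map_one] at this
    revert this; decide +kernel) [o 2, o 4, o 8, o 16] (by decide +kernel)
  refine ⟨φ, ⟨h2, eq_of_le_of_card_ge ?_ ?_⟩, h0⟩
  · rintro _ ⟨p, rfl⟩
    rw [mem_Cx, ← map_mul, hfM.zc, map_mul]
  · rw [MonoidHom.range_eq_map, card_map_of_injective h2, card_top, card_eq, h1]
    exact card_cent_M12

theorem card_aut : Nat.card (MulAut Spor.M12) = 190080 := by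
  rw [card_eq_card_quotient_mul_card_subgroup (Inn Spor.M12), Cfsg.Agent.S2061.result, Inn,
    MonoidHom.range_eq_map, card_map_of_injective conj_inj, card_top, Mathieu.card_M12]

/-- The part of `AutF` which is read off from the permutations. -/
structure B (φ : HM →* Spor.M12) (σ : Spor.M12) (η : HT →* MulAut Spor.M12) : Prop where
  inj : Function.Injective φ
  range : φ.range = Cx (φ (o 1))
  s3 : σ * σ * σ = 1
  rel : ∀ p ∈ [(1, 2), (2, 3), (4, 46), (8, 8), (32, 4)], W2.Rel φ σ (o p.1) (o p.2)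
  qinv : φ (o 16) * σ * φ (o 16) = σ⁻¹
  gen : ∀ H : Subgroup Spor.M12, φ.range ≤ H → σ ∈ H → H = ⊤
  inn : ∀ a, η (em a) = MulAut.conj (φ a)
  act : ∀ h a, η h (φ a) = φ (cT h a)
  cs : η (o 192) σ = σ
  nc : ¬ IsConj (φ (o 1)) (φ (o 8))

theorem exists_B : ∃ φ σ η, B φ σ η := by
  obtain ⟨φ, hφ, h⟩ := exists_φ
  obtain ⟨c, cc, hc⟩ := exists_c
  have w : ∀ w : List ℕ, (∀ x ∈ w, x / 2 ∈ List.range 7) →
      ev gM w = φ (ev (fun j => o ([2, 4, 8, 16, 1, 32, 64].getD j 0)) w) :=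
    fun w hw => ev_eq_map φ (fun i hi => h i (List.mem_range.1 hi)) hw
  have hf : ∀ j, κ (gM j) = fM j := fun j => Subtype.ext (code_gM j)
  have a2 : φ (o 2) = gM 0 := h 0 (by norm_num)
  have a4 : φ (o 4) = gM 1 := h 1 (by norm_num)
  have a8 : φ (o 8) = gM 2 := h 2 (by norm_num)
  have a16 : φ (o 16) = gM 3 := h 3 (by norm_num)
  have a1 : φ (o 1) = gM 4 := h 4 (by norm_num)
  have a32 : φ (o 32) = gM 5 := h 5 (by norm_num)
  have rc : ∀ a, c (φ a) = φ (cT (o 192) a) := fun a => ind_of_genB (gs := [o 2, o 8, o 32, o 64]) (D := 4)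
    (by decide +kernel) (P := fun a => c (φ a) = φ (cT (o 192) a))
    (by rw [show cT (o 192) 1 = 1 by decide +kernel, map_one, map_one]) (fun a ih g hg => by
      have : c (φ g) = φ (cT (o 192) g) := by
        obtain ⟨j, hj, rfl⟩ : ∃ j < 7, g = o ([2, 4, 8, 16, 1, 32, 64].getD j 0) := by
          simp only [List.mem_cons, List.not_mem_nil, or_false] at hg
          rcases hg with rfl | rfl | rfl | rfl
          exacts [⟨0, by norm_num, rfl⟩, ⟨2, by norm_num, rfl⟩, ⟨5, by norm_num, rfl⟩, ⟨6, by norm_num, rfl⟩]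
        rw [h j hj, hc j (by omega), w _ (by clear * - hj; revert j; decide)]
        congr 1
        clear * - hj; revert j; decide +kernel
      rw [map_mul, map_mul, ih, this, ← map_mul]
      congr 1
      exact ((by decide +kernel : ∀ a : HM, LA [o 2, o 8, o 32, o 64] fun g =>
        cT (o 192) (a * g) = cT (o 192) a * cT (o 192) g) a g hg).symm) a
  obtain ⟨η, hη⟩ := sd_lift okT rfl (MulAut.conj.comp φ) (hom2 c cc) (by decide +kernel) fun s a => by
    rcases (by decide +kernel : ∀ s : TG ok2, (s.v = 0 ∧ ∀ a : HM, o (aT s.v a.v) = a) ∨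
      (s.v = 1 ∧ ∀ a : HM, o (aT s.v a.v) = cT (o 192) a)) s with k | k
    · rw [W2.Rel, hom2_apply, k.2, k.1]; simp
    · rw [W2.Rel, hom2_apply, k.2, k.1, pow_one]
      exact MulEquiv.ext fun m => by simp [← rc]
  have inn : ∀ a, η (em a) = MulAut.conj (φ a) := fun a => by
    obtain ⟨k, l⟩ := (by decide +kernel : ∀ a : HM, o ((em a).v % 192) = a ∧ o ((em a).v / 192) = (1 : TG ok2)) a
    rw [hη, k, l, map_one, mul_one]; rfl
  have e192 : η (o 192) = c := by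
    rw [hη, show (o ((o 192 : HT).v % 192) : HM) = 1 by decide +kernel, map_one, one_mul]; exact pow_one c
  refine ⟨φ, gM 7, η, hφ.inj, hφ.range, hκ ?_, ?_, hκ ?_, fun H h1 h2 => ?_, inn, fun k a => ?_, ?_, fun k => ?_⟩
  · simp only [map_mul, map_one, hf]
    decide +kernel
  · simp only [List.forall_mem_cons, W2.Rel, (by decide +kernel : (o 3 : HM) = o 1 * o 2),
      (by decide +kernel : (o 46 : HM) = o 2 * o 4 * o 8 * o 32), map_mul, a1, a2, a4, a8, a32]
    refine ⟨hκ ?_, hκ ?_, hκ ?_, hκ ?_, hκ ?_, by simp⟩ <;> simp only [map_mul, map_inv, hf] <;> decide +kernel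
  · simp only [a16, map_mul, map_inv, hf]
    decide +kernel
  · have h3 : ∀ j < 8, gM j ∈ H := fun j hj =>
      (Nat.lt_succ_iff_lt_or_eq.1 hj).elim (fun l => h j l ▸ h1 ⟨_, rfl⟩) fun l => l ▸ h2
    refine eq_top_iff.2 (gM_gen.ge.trans (gen_le.2 fun y hy => ?_))
    obtain ⟨v, hv, e⟩ : ∃ v : List ℕ, (∀ x ∈ v, x / 2 < 8) ∧ ev fM y = ev fM v :=
      (by decide +kernel : ∀ y ∈ [[0], [2], [4], [6], [8], [10], [12], [14], [16]], ∃ v ∈ [y,
        [6, 12, 14, 13, 14, 12, 15, 13, 15, 12, 14, 13, 14]], (∀ x ∈ v, x / 2 < 8) ∧ ev fM y = ev fM v) y hy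
        |>.imp fun _ l => l.2
    exact ev_inj e ▸ ev_mem fun x hx => h3 _ (hv x hx)
  · rcases (by decide +kernel : ∀ k : HT, LE [0, 192] fun j => k = em (o k.v) * o j ∧ ∀ a : HM,
      cT k a = o k.v * cT (o j) a * (o k.v)⁻¹) k with ⟨j, hj, e, l⟩
    rw [l, e, map_mul, inn, ← e]
    simp only [List.mem_cons, List.not_mem_nil, or_false] at hj
    rcases hj with rfl | rfl
    · rw [o_zero, map_one, (by decide +kernel : ∀ a, cT 1 a = a)]; simp
    · simp [e192, rc]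
  · rw [e192, hc 7 (by norm_num)]; exact W2.ev_single gM 7
  · obtain ⟨m, e⟩ := isConj_iff.1 k
    have h1 : ev gM [0, 6, 16] ∈ Cx (φ (o 8)) := mem_Cx.2 (hκ (by
      simp only [map_mul, a8, hf, κ_ev]; decide +kernel))
    rw [← e, ← cj_Cx, mem_cj, ← hφ.range] at h1
    obtain ⟨p, hp⟩ := h1
    have h2 : φ (p * p * p * p * p) = φ 1 := by
      have : ev gM [0, 6, 16] ^ 5 = 1 := hκ (by
        rw [map_pow, map_one, κ_ev, show ∀ x : CG ok24, x ^ 5 = x * x * x * x * x from fun x => by simp [pow_succ]]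
        decide +kernel)
      have := conj_pow (a := m⁻¹) (i := 5) (b := ev gM [0, 6, 16])
      rw [show p * p * p * p * p = p ^ 5 by simp [pow_succ], map_pow, hp]; simp_all
    rw [(by decide +kernel : ∀ p : HM, p * p * p * p * p = 1 → p = 1) p (hφ.inj h2), map_one] at hp
    have := κ_ev [0, 6, 16]
    rw [show ev gM [0, 6, 16] = 1 by simpa [mul_assoc] using congrArg (fun x => m * x * m⁻¹) hp.symm, map_one] at this
    revert this; decide +kernel

theorem B.ηinj (A : B φ σ η) : Function.Injective η :=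
  injective_of_socle η (z := o 1) (fun e => by
    rw [show (o 1 : HT) = em (o 1) from rfl, A.inn, ← map_one MulAut.conj, conj_inj.eq_iff, ← map_one φ] at e
    exact absurd (A.inj e) (by decide +kernel)) [o 2, o 4, o 8, o 16] (by decide +kernel)

theorem B.not_inner (A : B φ σ η) (m : Spor.M12) : η (o 192) ≠ MulAut.conj m := fun e => by
  have h1 := A.act (o 192) (o 1)
  rw [e, show cT (o 192) (o 1) = o 1 by decide +kernel] at h1
  obtain ⟨a, rfl⟩ : m ∈ φ.range := A.range ▸ mem_Cx'.2 h1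
  exact (by decide +kernel : ∀ a, em a ≠ o 192) a (A.ηinj ((A.inn a).trans e.symm))

theorem B.two (A : B φ σ η) (ψ : MulAut Spor.M12) : ∃ m, ψ = MulAut.conj m ∨ ψ = MulAut.conj m * η (o 192) := by
  by_cases h : ψ ∈ Inn Spor.M12
  · exact h.imp fun _ e => .inl e.symm
  obtain ⟨m, e⟩ := (mul_mem_iff_of_index_two (H := Inn Spor.M12) Cfsg.Agent.S2061.result).2
    (iff_of_false h fun k => (inv_mem_iff.1 k : η (o 192) ∈ Inn _).elim fun m e => A.not_inner m e.symm)
  exact ⟨m, .inr (by rw [e, inv_mul_cancel_right])⟩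

theorem B.cent (A : B φ σ η) (ψ : MulAut Spor.M12) (h : ψ (φ (o 1)) = φ (o 1)) : ψ ∈ η.range := by
  obtain ⟨m, rfl | rfl⟩ := A.two ψ
  · obtain ⟨a, rfl⟩ : m ∈ φ.range := A.range ▸ mem_Cx'.2 h
    exact ⟨_, A.inn a⟩
  · rw [MulAut.mul_apply, A.act, show cT (o 192) (o 1) = o 1 by decide +kernel] at h
    obtain ⟨a, rfl⟩ : m ∈ φ.range := A.range ▸ mem_Cx'.2 h
    exact ⟨em a * o 192, by rw [map_mul, A.inn]⟩

theorem cj_conj (α : MulAut Spor.M12) (m : Spor.M12) : α * MulAut.conj m * α⁻¹ = MulAut.conj (α m) :=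
  MulEquiv.ext fun x => by simp

theorem B.rel_iff (A : B φ σ η) {α : MulAut Spor.M12} {p q : ℕ} (hp : p < 192) (hq : q < 192) :
    W2.Rel η α (o p) (o q) ↔ α (φ (o p)) = φ (o q) := by
  have : ∀ p < 192, η (o p) = MulAut.conj (φ (o p)) := fun p hp => by rw [← A.inn, em_apply, v_o hp]
  rw [W2.Rel, this p hp, this q hq, cj_conj, conj_inj.eq_iff]

theorem B.cent' (A : B φ σ η) {α : MulAut Spor.M12} (h : W2.Rel η α (o 1) (o 1)) : α ∈ η.range :=
  A.cent _ ((A.rel_iff (by norm_num) (by norm_num)).1 h)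

theorem B.s (A : B φ σ η) : ∀ p ∈ [(1, 2), (2, 3), (4, 46), (8, 8), (32, 4)],
    W2.Rel η (MulAut.conj σ) (o p.1) (o p.2) := fun p hp =>
  (A.rel_iff (by revert p; decide) (by revert p; decide)).2 (A.rel p hp)

theorem B.nc' (A : B φ σ η) (α : MulAut Spor.M12) : ¬ W2.Rel η α (o 1) (o 8) := fun h => by
  rw [A.rel_iff (by norm_num) (by norm_num)] at h
  obtain ⟨m, rfl | rfl⟩ := A.two α
  · exact A.nc (isConj_iff.2 ⟨m, h⟩)
  · rw [MulAut.mul_apply, A.act, show cT (o 192) (o 1) = o 1 by decide +kernel] at h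
    exact A.nc (isConj_iff.2 ⟨m, h⟩)

noncomputable def S1 : Subgroup HT := subG (fun a => a.v % 192 < 64) [o 2, o 4, o 8, o 16, o 32, o 192] 4
  (by decide +kernel)
noncomputable def CA : Subgroup HT := subG (fun a => a * o 8 = o 8 * a) [o 2, o 8, o 16, o 192] 4
  (by decide +kernel)
noncomputable def CE : Subgroup HT := subG (fun a => a * o 192 = o 192 * a) [o 1, o 2, o 8, o 192] 2
  (by decide +kernel)

theorem B.cls (A : B φ σ η) (ψ : MulAut Spor.M12) (h1 : ψ * ψ = 1) (h2 : ψ ≠ 1) :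
    ∃ α, ∃ k ∈ [1, 8, 192], α * ψ * α⁻¹ = η (o k) := by
  have c : Nat.card (S1.map η) = 128 := by
    rw [card_map_of_injective A.ηinj, S1, card_subG]; decide +kernel
  obtain ⟨α, -, h, hh, e⟩ := IsSylowIn.exists_conj_mem (p := 2) (T := S1.map η) (H := ⊤) ⟨le_top, IsPGroup.of_card (n := 7) c,
    by
      rintro ⟨k, hk⟩
      have := card_mul_relIndex' (le_top : S1.map η ≤ ⊤)
      rw [c, hk, card_top, card_aut] at this
      omega⟩ (mem_top ψ) (isPGroup_zpowers_of_pow (k := 1) (by rw [pow_one, sq, h1]))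
  obtain ⟨k, -, j, hj, l⟩ := (by decide +kernel : ∀ h : HT, h.v % 192 < 64 → h * h = 1 → h ≠ 1 →
    LE [0, 20, 36, 40, 12, 16, 48, 52, 64, 84, 96, 116, 128, 132, 160, 164] fun k =>
      LE [1, 2, 8, 32, 192] fun j => o k * h * (o k)⁻¹ = o j) h hh
    (A.ηinj (by rw [map_mul, e, conj_mul, h1]; simp)) fun l => h2 (by simpa [l] using e.symm)
  have r : ∀ {β j}, W2.Rel η β h (o j) → β * α * ψ * (β * α)⁻¹ = η (o j) := fun {β j} r => by
    rw [← r, e]; group
  have r0 := (Rel.conj η (o k) h).of_eq rfl l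
  have s1 := A.s (1, 2) (by simp)
  simp only [List.mem_cons, List.not_mem_nil, or_false] at hj
  rcases hj with rfl | rfl | rfl | rfl | rfl
  exacts [⟨_, 1, by simp, r r0⟩, ⟨_, 1, by simp, r (s1.symm.comp r0)⟩, ⟨_, 8, by simp, r r0⟩,
    ⟨_, 1, by simp, r (s1.symm.comp (((Rel.conj η (o 96) _).of_eq rfl (by decide +kernel)).comp
      ((A.s (32, 4) (by simp)).comp r0)))⟩, ⟨_, 192, by simp, r r0⟩]

theorem syl_of {G : Type*} [Group G] [Finite G] {T K : Subgroup G} (hT : IsPGroup 2 T) (le : T ≤ K)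
    (h : ∀ x ∈ K, x ∈ normalizer (T : Set G) → Two x → x ∈ T) : IsSylowIn 2 T K := by
  by_contra hn
  obtain ⟨R, hR, hlt, hK, hN⟩ := exists_lt_pgroup_normalizer hT le hn
  exact hlt.not_ge fun x hx => h x (hK hx) (hN hx) (isPGroup_iff_mem.1 hR x hx)

theorem B.sylA (A : B φ σ η) : IsSylowIn 2 (CA.map η) (Cx (η (o 8))) := by
  refine syl_of ((IsPGroup.of_card (n := 5) (by rw [CA, card_subG]; decide +kernel)).map η)
    (fun _ ⟨a, h, e⟩ => mem_Cx.2 (by rw [← e, ← map_mul, mem_subG.1 h, map_mul])) fun x hx hn _ => ?_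
  obtain ⟨p, hp, e1⟩ := conj_mem_of_mem_normalizer hn (mem_map_of_mem η (x := o 2) (mem_subG.2 (by decide +kernel)))
  obtain ⟨q, hq, e2⟩ := conj_mem_of_mem_normalizer hn (mem_map_of_mem η (x := o 16) (mem_subG.2 (by decide +kernel)))
  have r : W2.Rel η x (o 1) (p * q * p⁻¹ * q⁻¹) :=
    (((Rel.mul e1.symm e2.symm).mul (Rel.inv e1.symm)).mul (Rel.inv e2.symm)).of_eq (by decide +kernel) rfl
  rcases (by decide +kernel : ∀ p : HT, p * o 8 = o 8 * p → ∀ q : HT, q * o 8 = o 8 * q →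
    p * q * p⁻¹ * q⁻¹ = 1 ∨ p * q * p⁻¹ * q⁻¹ = o 1 ∨ LE [0, 4] fun k => o k * (p * q * p⁻¹ * q⁻¹) * (o k)⁻¹ = o 8)
    p hp q hq with e | e | ⟨k, -, e⟩
  · exact absurd (r.uniq' A.ηinj Rel.one e) (by decide +kernel)
  · obtain ⟨h, rfl⟩ := A.cent' (r.of_eq rfl e)
    exact ⟨h, A.ηinj (by simpa using mem_Cx.1 hx), rfl⟩
  · exact absurd (((Rel.conj η (o k) _).comp r).of_eq rfl e) (A.nc' _)

theorem B.sylC (A : B φ σ η) : IsSylowIn 2 (CE.map η) (Cx (η (o 192))) := by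
  refine syl_of ((IsPGroup.of_card (n := 4) (by rw [CE, card_subG]; decide +kernel)).map η)
    (fun _ ⟨a, h, e⟩ => mem_Cx.2 (by rw [← e, ← map_mul, mem_subG.1 h, map_mul])) fun x hx hn ⟨j, hj⟩ => ?_
  obtain ⟨p, hp, e1⟩ := conj_mem_of_mem_normalizer hn (mem_map_of_mem η (x := o 1) (mem_subG.2 (by decide +kernel)))
  have r : W2.Rel η x (o 1) p := e1.symm
  have s1 := A.s (1, 2) (by simp)
  have s2 := A.s (2, 3) (by simp)
  have s3 : W2.Rel η (MulAut.conj σ) (o 3) (o 1) := (s1.mul s2).of_eq (by decide +kernel) (by decide +kernel)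
  have sc : MulAut.conj σ ∈ Cx (η (o 192)) := Cx_comm.1 (mem_Cx'.2 (by rw [cj_conj, A.cs]))
  have key : ∀ y ∈ Cx (η (o 192)), W2.Rel η y (o 1) (o 1) → y ∈ CE.map η ∧ W2.Rel η y (o 2) (o 2) ∧
      W2.Rel η y (o 3) (o 3) := fun y hy l => by
    obtain ⟨h, rfl⟩ := A.cent' l
    have k : h * o 192 = o 192 * h := A.ηinj (by simpa using mem_Cx.1 hy)
    obtain ⟨a, b⟩ := (by decide +kernel : ∀ h : HT, h * o 192 = o 192 * h → h * o 2 * h⁻¹ = o 2 ∧
      h * o 3 * h⁻¹ = o 3) h k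
    exact ⟨⟨h, k, rfl⟩, (Rel.conj η h _).of_eq rfl a, (Rel.conj η h _).of_eq rfl b⟩
  have cube : W2.Rel η (x * (x * x)) (o 1) (o 1) → W2.Rel η x (o 1) (o 1) := fun l =>
    mem_Cx'.1 (mem_of_coprime_pow (a := 3) (b := 2 ^ j) (Nat.Coprime.pow_right _ (by norm_num))
      (by rw [pow_three]; exact mem_Cx'.2 l) (hj ▸ one_mem _))
  rcases (by decide +kernel : ∀ p : HT, p * o 192 = o 192 * p → p = 1 ∨ p = o 1 ∨ p = o 2 ∨ p = o 3 ∨
    LE [0, 4, 32, 36, 16, 48, 52, 20] fun k => o k * p * (o k)⁻¹ = o 8 ∨ o k * p * (o k)⁻¹ = o 192)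
    p hp with e | rfl | rfl | rfl | ⟨k, -, e | e⟩
  · exact absurd (r.uniq' A.ηinj Rel.one e) (by decide +kernel)
  · exact (key x hx r).1
  · obtain ⟨-, a, b⟩ := key _ (mul_mem (inv_mem sc) hx) (s1.symm.comp r)
    have a := s2.comp a
    have b := s3.comp b
    rw [mul_inv_cancel_left] at a b
    exact (key x hx (cube (b.comp (a.comp r)))).1
  · obtain ⟨-, a, b⟩ := key _ (mul_mem sc hx) (s3.comp r)
    have a := s1.symm.comp a
    have b := s2.symm.comp b
    rw [inv_mul_cancel_left] at a b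
    exact (key x hx (cube (a.comp (b.comp r)))).1
  · exact absurd (((Rel.conj η (o k) _).comp r).of_eq rfl e) (A.nc' _)
  · have := ((Rel.conj η (o k) _).comp r).of_eq rfl e
    rw [W2.Rel, show (o 1 : HT) = em (o 1) from rfl, A.inn, cj_conj] at this
    exact absurd this.symm (A.not_inner _)

end AutA

open AutA

theorem exists_aut : ∃ φ σ η, AutF φ σ η := by
  obtain ⟨φ, σ, η, A⟩ := exists_B
  refine ⟨φ, σ, η, A.inj, A.range, A.s3, A.rel, A.qinv, A.gen, A.ηinj, A.inn, A.act, A.cs, A.cent, A.two, A.cls,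
    fun X a b => ?_, fun X a b x hx y hy => ?_⟩
  · obtain ⟨α, h, l⟩ := A.sylA.exists_cj_le a b
    exact ⟨α, h, fun x hx => map_le_range _ _ (cj_le_iff.1 l x hx)⟩
  · obtain ⟨α, -, l⟩ := A.sylC.exists_cj_le a b
    obtain ⟨p, hp, e1⟩ := cj_le_iff.1 l x hx
    obtain ⟨q, hq, e2⟩ := cj_le_iff.1 l y hy
    have := congrArg η ((by decide +kernel : ∀ p : HT, p * o 192 = o 192 * p → ∀ q : HT, q * o 192 = o 192 * q →
      p * q = q * p) p hp q hq)
    rw [map_mul, map_mul, e1, e2, conj_mul, conj_mul] at this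
    simpa using this

theorem AutF.map (A : AutF φ σ η) (α : MulAut Spor.M12) :
    AutF (α.toMonoidHom.comp φ) (α σ) ((MulAut.conj α).toMonoidHom.comp η) := by
  have e : ∀ h, ((MulAut.conj α).toMonoidHom.comp η) h = α * η h * α⁻¹ := fun _ => rfl
  have f : ∀ a, (α.toMonoidHom.comp φ) a = α (φ a) := fun _ => rfl
  have cx : ∀ {X : Subgroup (MulAut Spor.M12)} {u}, X ≤ Cx (α * u * α⁻¹) → cj α⁻¹ X ≤ Cx u := fun h => by
    simpa [cj_Cx, mul_assoc] using cj_mono α⁻¹ h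
  refine ⟨α.injective.comp A.inj, Subgroup.ext fun m => ?_, by rw [← map_mul, ← map_mul, A.s3, map_one],
    fun p hp => ?_, by rw [f, ← map_mul, ← map_mul, A.qinv, map_inv], fun H h1 h2 => ?_,
    (MulAut.conj α).injective.comp A.ηinj, fun a => by rw [e, A.inn, cj_conj, f], fun h a => by simp [← A.act],
    by simp [A.cs], fun ψ h => ?_, fun ψ => ?_, fun ψ h1 h2 => ?_, fun X a b => ?_, fun X a b x hx y hy => ?_⟩
  · obtain ⟨m, rfl⟩ := α.surjective m
    rw [mem_Cx, f, ← map_mul, ← map_mul, α.injective.eq_iff, ← mem_Cx, ← A.range]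
    exact ⟨fun ⟨a, l⟩ => ⟨a, α.injective l⟩, fun ⟨a, l⟩ => ⟨a, congrArg α l⟩⟩
  · rw [W2.Rel, f, f, ← A.rel p hp, map_mul, map_mul, map_inv]
  · refine eq_top_iff.2 fun m _ => ?_
    obtain ⟨m, rfl⟩ := α.surjective m
    exact (A.gen (H.comap α.toMonoidHom) (fun _ ⟨a, l⟩ => l ▸ h1 ⟨a, rfl⟩) h2).ge (mem_top m)
  · obtain ⟨k, l⟩ := A.cent (α⁻¹ * ψ * α) (α.injective (by simpa using h))
    exact ⟨k, by rw [e, l]; group⟩
  · obtain ⟨m, l⟩ := A.two (α⁻¹ * ψ * α)
    exact ⟨α m, l.imp (fun l => by rw [← cj_conj, ← l]; group) fun l => by rw [← cj_conj, e, conj_mul, ← l]; group⟩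
  · obtain ⟨β, k, hk, l⟩ := A.cls ψ h1 h2
    exact ⟨α * β, k, hk, by rw [e, ← l]; group⟩
  · obtain ⟨β, h, l⟩ := A.sylA _ (isPGroup_cj _ a) (cx b)
    refine ⟨α * β * α⁻¹, conj_mem_Cx.2 h, fun x hx => ?_⟩
    obtain ⟨k, l⟩ := l _ (conj_mem_cj.2 hx)
    exact ⟨k, by rw [e, l]; group⟩
  · simpa [conj_mul] using (conj_mul ..).symm.trans
      ((A.sylC _ (isPGroup_cj _ a) (cx b) _ (conj_mem_cj.2 hx) _ (conj_mem_cj.2 hy)).trans (conj_mul ..))

theorem not_dvd_card_aut : ¬ 256 ∣ Nat.card (MulAut Spor.M12) := by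
  rw [card_aut]; decide

end CfsgLib.SM12
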