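import Mathlib
import Cfsg.Agent.Lib.SM12.Aut
import Cfsg.Agent.Lib.SM12.Fr

/-! Package EGA: the frame from the standard subgroup (plans/SM12.md). -/

set_option autoImplicit false
set_option maxRecDepth 100000
set_option synthInstance.maxSize 4096

namespace CfsgLib.SM12

open Subgroup Cfsg CfsgLib.W2 CfsgLib.W2.TG CfsgLib.Tech CfsgLib.CosetEnum CfsgLib.Yos

namespace EGa

variable {G : Type*} [Group G] {e g h c : G} {ι : Spor.M12 →* G} {Y : Subgroup G} {ψ χ : MulAut Spor.M12}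

theorem a_mul (A : Act ι g ψ) (B : Act ι h χ) : Act ι (g * h) (ψ * χ) := fun m => by
  rw [MulAut.mul_apply, ← A, ← B]
  group

theorem a_inv (A : Act ι g ψ) : Act ι g⁻¹ ψ⁻¹ := fun m => by
  have := A (ψ⁻¹ m)
  rw [MulAut.apply_inv_self] at this
  rw [← this]
  group

theorem a_one : Act ι 1 1 := fun m => by simp

theorem a_pow (A : Act ι g ψ) : ∀ n : ℕ, Act ι (g ^ n) (ψ ^ n)
  | 0 => by simpa using a_one
  | n + 1 => by simpa [pow_succ] using a_mul (a_pow A n) A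

theorem a_inn (ι : Spor.M12 →* G) (m : Spor.M12) : Act ι (ι m) (MulAut.conj m) := fun p => by simp

theorem a_uniq (hι : Function.Injective ι) (A : Act ι g ψ) (B : Act ι g χ) : ψ = χ :=
  MulEquiv.ext fun m => hι ((A m).symm.trans (B m))

/-- Two elements with the same action differ by an element of `Y ⟨e⟩`. -/
theorem diff (S : St e ι Y) (hg : g ∈ Cx e) (hh : h ∈ Cx e) (A : Act ι g ψ) (B : Act ι h ψ) :
    ∃ y ∈ Y, ∃ i < 2, g = y * h * e ^ i := by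
  have := a_mul A (a_inv B)
  rw [mul_inv_cancel] at this
  rcases S.ker _ (mul_mem hg (inv_mem hh)) fun m => mul_inv_eq_iff_eq_mul.1 (this m) with k | k
  · exact ⟨_, k, 0, by omega, by simp⟩
  · refine ⟨_, k, 1, by omega, ?_⟩
    rw [pow_one, mul_assoc _ e, ← mem_Cx.1 hh, mul_assoc, mul_assoc h, S.ee, mul_one, inv_mul_cancel_right]

theorem not_mem (S : St e ι Y) : e ∉ ι.range := by
  rintro ⟨m, hm⟩
  refine S.ne ?_
  have : MulAut.conj m = MulAut.conj 1 := MulEquiv.ext fun p => S.inj (by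
    rw [MulAut.conj_apply, MulAut.conj_apply, one_mul, inv_one, mul_one, map_mul, map_mul, map_inv, hm,
      ← mem_Cx.1 (S.le ⟨p, rfl⟩), mul_inv_cancel_right])
  rw [← hm, AutA.conj_inj this, map_one]

theorem syl [Finite G] (S : St e ι Y) : ¬ 512 ∣ Nat.card (Cx e) := by
  choose α hα using S.act
  let a : Cx e →* MulAut Spor.M12 := MonoidHom.mk' (fun g => α g g.2) fun g h =>
    a_uniq S.inj (hα _ (g * h).2) (a_mul (hα _ g.2) (hα _ h.2))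
  let f := Y.subtype.noncommCoprod (hom2 e S.ee) fun y s => Commute.pow_right (mem_Cx.1 (S.eY y.2)) s.v
  have h1 : a.ker ≤ f.range.subgroupOf (Cx e) := fun g hg => by
    have h2 : Act ι g 1 := (show α g g.2 = 1 from hg) ▸ hα g g.2
    obtain ⟨y, hy, i, hi, h⟩ := diff S g.2 (one_mem _) h2 a_one
    refine ⟨(⟨y, hy⟩, o i), ?_⟩
    show y * e ^ (o i : TG ok2).v = g
    rw [v_o hi, h, mul_one]
  have h2 : Nat.card a.ker ∣ Nat.card Y * 2 := by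
    have := card_range_dvd f
    rw [Nat.card_prod, card_eq] at this
    exact ((card_dvd_of_le h1).trans (card_comap_dvd_of_injective _ _ (subtype_injective _))).trans this
  refine fun h => not_dvd_odd_mul (k := 8) S.odd not_dvd_card_aut (h.trans ?_)
  rw [← a.ker.card_mul_index, index_ker, mul_right_comm]
  exact Nat.mul_dvd_mul h2 (card_subgroup_dvd_card _)

theorem f0 : (o 192 : HT) * o 192 = 1 ∧ (o 8 : HM) * o 4 * (o 8)⁻¹ * (o 4)⁻¹ = o 1 := by decide +kernel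

variable {φ : HM →* Spor.M12} {σ : Spor.M12} {η : HT →* MulAut Spor.M12}

theorem exists_c (S : St e ι Y) (hg : g ∈ Cx e) (A : Act ι g (η (o 192))) :
    ∃ c ∈ Cx e, Act ι c (η (o 192)) ∧ (c * c = 1 ∨ c * c = e) := by
  have h2 : η (o 192) * η (o 192) = 1 := by rw [← map_mul, f0.1, map_one]
  refine ⟨g ^ Nat.card Y, pow_mem hg _, pow_odd_eq S.odd h2 ▸ a_pow A _, ?_⟩
  obtain ⟨y, hy, i, hi, h⟩ := diff S (mul_mem hg hg) (one_mem _) (h2 ▸ a_mul A A) a_one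
  rw [← (Commute.refl g).mul_pow, h, mul_one, Commute.mul_pow (Commute.pow_right (mem_Cx.1 (S.eY hy)) i),
    pow_card_eq_one hy, one_mul]
  obtain rfl | rfl : i = 0 ∨ i = 1 := by omega
  · simp
  · rw [pow_one, pow_odd_eq S.odd S.ee]
    exact Or.inr rfl

theorem fr0 (S : St e ι Y) (A : AutF φ σ η) {b : Prop} (hc : c ∈ Cx e) (h1 : b → Act ι c (η (o 192)))
    (h2 : ¬ b → c = 1) (h3 : ∀ g ∈ Cx e, Act ι g (η (o 192)) → b) :
    Fr0 e (ι.comp φ) (ι σ) Y ι.range c b := by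
  have hb : ∀ g ∈ Cx e, ∀ m, Act ι g (MulAut.conj m * η (o 192)) → b := fun g hg m h =>
    h3 _ (mul_mem (inv_mem (S.le ⟨m, rfl⟩)) hg) (by simpa using a_mul (a_inv (a_inn ι m)) h)
  refine ⟨S.inj.comp A.inj, S.ee, not_mem S, S.le, fun g => ⟨?_, ?_⟩, ?_, ⟨σ, rfl⟩, ?_, fun p hp => ?_, ?_, S.odd,
    S.eY, ?_, S.nY, hc, ?_, fun hb a => ?_, fun g g1 g2 => ?_, fun nb g hg => ?_⟩
  · rintro ⟨a, rfl⟩
    refine ⟨⟨φ a, rfl⟩, mem_Cx.2 ?_⟩
    rw [← map_mul, ← map_mul, z_cen]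
  · rintro ⟨⟨m, rfl⟩, h⟩
    obtain ⟨a, ha⟩ : m ∈ φ.range := A.range ▸ mem_Cx.2 (S.inj (by
      rw [map_mul, map_mul]
      exact mem_Cx.1 h))
    exact ⟨a, congrArg ι ha⟩
  · rw [MonoidHom.range_eq_map, card_map_of_injective S.inj, card_top, Mathieu.card_M12]
    norm_num
  · rw [← map_mul, ← map_mul, A.s3, map_one]
  · show ι _ * ι _ * (ι _)⁻¹ = ι _
    rw [← map_inv, ← map_mul, ← map_mul]
    exact congrArg ι (A.rel p hp)
  · show ι _ * ι _ * ι _ = _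
    rw [← map_inv, ← map_mul, ← map_mul, A.qinv]
  · rintro _ ⟨m, rfl⟩
    exact S.cY m
  · by_cases hb : b
    · have := h1 hb σ
      rw [A.cs] at this
      exact mul_inv_eq_iff_eq_mul.1 this
    · rw [h2 hb, one_mul, mul_one]
  · exact (h1 hb (φ a)).trans (congrArg ι (A.act _ a))
  · obtain ⟨ψ, hψ⟩ := S.act g g1
    obtain ⟨h, rfl⟩ := A.cent ψ (S.inj ((hψ _).symm.trans (mem_Cx'.1 g2)))
    obtain ⟨a, rfl | rfl⟩ := ht_cases h
    · rw [A.inn] at hψ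
      obtain ⟨y, hy, i, hi, h⟩ := diff S g1 (S.le ⟨_, rfl⟩) hψ (a_inn ι _)
      exact ⟨y, hy, a, i, hi, Or.inl h⟩
    · rw [map_mul, A.inn] at hψ
      have b1 := hb g g1 _ hψ
      obtain ⟨y, hy, i, hi, h⟩ := diff S g1 (mul_mem (S.le ⟨_, rfl⟩) hc) hψ (a_mul (a_inn ι _) (h1 b1))
      exact ⟨y, hy, a, i, hi, Or.inr ⟨b1, h.trans (by rw [← mul_assoc]; rfl)⟩⟩
  · obtain ⟨ψ, hψ⟩ := S.act g hg
    obtain ⟨m, rfl | rfl⟩ := A.two ψ
    · obtain ⟨y, hy, i, hi, h⟩ := diff S hg (S.le ⟨_, rfl⟩) hψ (a_inn ι _)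
      refine ⟨y, hy, ι m, ⟨m, rfl⟩, ?_⟩
      obtain rfl | rfl : i = 0 ∨ i = 1 := by omega
      · exact Or.inl (by simpa using h)
      · exact Or.inr (by simpa using h)
    · exact (nb (hb g hg m hψ)).elim

theorem nc (S : St e ι Y) (A : AutF φ σ η) {b : Prop} (hc : c ∈ Cx e) (h1 : b → Act ι c (η (o 192)))
    (F : Fr0 e (ι.comp φ) (ι σ) Y ι.range c b) (h3 : ∀ g ∈ Cx e, Act ι g (η (o 192)) → b) :
    ¬ IsConj e (ι.comp φ (o 1)) := fun h => by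
  obtain ⟨g, hg⟩ := isConj_iff.1 h.symm
  let N := (Y.subtype.noncommCoprod ι fun y m => (S.cY m y y.2).symm).range
  have nN : ∀ s ∈ Cx e, ∀ n ∈ N, s * n * s⁻¹ ∈ N := by
    rintro s hs _ ⟨⟨y, m⟩, rfl⟩
    obtain ⟨ψ, hψ⟩ := S.act s hs
    refine ⟨(⟨_, (mem_normalizer_iff.1 (S.nY hs) _).1 y.2⟩, ψ m), ?_⟩
    show s * y * s⁻¹ * ι (ψ m) = s * (y * ι m) * s⁻¹
    rw [← hψ]
    group
  have dec : ∀ u ∈ Cx e, ∃ n ∈ N, ∃ j i : ℕ, u = n * (c ^ j * e ^ i) := fun u hu => by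
    obtain ⟨ψ, hψ⟩ := S.act u hu
    obtain ⟨m, rfl | rfl⟩ := A.two ψ
    · obtain ⟨y, hy, i, -, h⟩ := diff S hu (S.le ⟨_, rfl⟩) hψ (a_inn ι _)
      exact ⟨y * ι m, ⟨(⟨y, hy⟩, m), rfl⟩, 0, i, by simpa using h⟩
    · have b1 : b := h3 _ (mul_mem (inv_mem (S.le ⟨m, rfl⟩)) hu) (by simpa using a_mul (a_inv (a_inn ι m)) hψ)
      obtain ⟨y, hy, i, -, h⟩ := diff S hu (mul_mem (S.le ⟨_, rfl⟩) hc) hψ (a_mul (a_inn ι _) (h1 b1))
      exact ⟨y * ι m, ⟨(⟨y, hy⟩, m), rfl⟩, 1, i, by simpa [mul_assoc] using h⟩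
  have cz : ∀ a, g * ι.comp φ a * g⁻¹ ∈ Cx e := fun a => by
    rw [← hg, conj_mem_Cx]
    exact mem_Cx.2 (by rw [← map_mul, ← map_mul, z_cen])
  obtain ⟨n, hn, j, i, e1⟩ := dec _ (cz (o 8))
  obtain ⟨n', hn', j', i', e2⟩ := dec _ (cz (o 4))
  have ce : Commute c e := mem_Cx.1 hc
  have cs : Commute (c ^ j * e ^ i) (c ^ j' * e ^ i') :=
    Commute.mul_left (Commute.mul_right ((Commute.refl c).pow_pow _ _) (ce.pow_pow _ _))
      (Commute.mul_right (ce.symm.pow_pow _ _) ((Commute.refl e).pow_pow _ _))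
  have ms : ∀ j i : ℕ, c ^ j * e ^ i ∈ Cx e := fun j i => mul_mem (pow_mem hc _) (pow_mem (mem_Cx.2 rfl) _)
  have key : e = n * (c ^ j * e ^ i * n' * (c ^ j * e ^ i)⁻¹) *
      (c ^ j' * e ^ i' * n⁻¹ * (c ^ j' * e ^ i')⁻¹) * n'⁻¹ := by
    generalize c ^ j * e ^ i = s, c ^ j' * e ^ i' = s' at e1 e2 cs ⊢
    calc e = (n * s) * (n' * s') * (n * s)⁻¹ * (n' * s')⁻¹ := by
          rw [← e1, ← e2, ← hg, ← f0.2, map_mul, map_mul, map_mul, map_inv, map_inv]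
          group
      _ = n * (s * n' * s⁻¹) * ((s * s') * s⁻¹ * n⁻¹ * s'⁻¹) * n'⁻¹ := by group
      _ = _ := by rw [cs.eq, mul_inv_cancel_right]
  obtain ⟨⟨y, m⟩, k⟩ : e ∈ N :=
    key ▸ mul_mem (mul_mem (mul_mem hn (nN _ (ms j i) _ hn')) (nN _ (ms j' i') _ (inv_mem hn))) (inv_mem hn')
  exact F.ne_mul y.2 ⟨m, rfl⟩ k.symm

end EGa

theorem St.exists_fr0 {G : Type*} [Group G] [Finite G] {e : G} {ι : Spor.M12 →* G} {Y : Subgroup G}
    (S : St e ι Y) : ∃ (φ : HM →* G) (σ c : G) (b : Prop), Fr0 e φ σ Y ι.range c b ∧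
      (c * c = 1 ∨ (b ∧ c * c = e)) ∧ ¬ IsConj e (φ (o 1)) ∧ ¬ 512 ∣ Nat.card (Cx e) := by
  obtain ⟨φ, σ, η, A⟩ := exists_aut
  by_cases hb : ∃ g ∈ Cx e, Act ι g (η (o 192))
  · obtain ⟨g, hg, h⟩ := hb
    obtain ⟨c, hc, h1, h2⟩ := EGa.exists_c S hg h
    have F := EGa.fr0 S A (b := True) hc (fun _ => h1) (fun h => (h trivial).elim) fun _ _ _ => trivial
    exact ⟨_, _, c, True, F, h2.imp_right fun h => ⟨trivial, h⟩,
      EGa.nc S A hc (fun _ => h1) F fun _ _ _ => trivial, EGa.syl S⟩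
  · have F := EGa.fr0 S A (b := False) (one_mem _) False.elim (fun _ => rfl) fun g h1 h2 => hb ⟨g, h1, h2⟩
    exact ⟨_, _, 1, False, F, Or.inl (one_mul 1),
      EGa.nc S A (one_mem _) False.elim F fun g h1 h2 => hb ⟨g, h1, h2⟩, EGa.syl S⟩

end CfsgLib.SM12
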