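import Mathlib
import Cfsg.Agent.Lib.SM12.Defs
import Cfsg.Agent.Lib.Holt.Wrap

/-! Package HOLT: the theorem of Holt modulo a normal subgroup of odd order (plans/SM12.md). -/

set_option autoImplicit false
set_option maxRecDepth 100000
set_option synthInstance.maxSize 4096

namespace CfsgLib.SM12

open Subgroup Cfsg CfsgLib.W2 CfsgLib.W2.TG CfsgLib.Tech CfsgLib.CosetEnum CfsgLib.Yos

namespace HoltM

open MulAction CfsgLib.PComp CfsgLib.Gold CfsgLib.Holt

variable {G A : Type*} [Group G] [Group A] {P : Subgroup G} {π : P →* A}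

/-- `N` covers the image of `π` -/
def Cv (π : P →* A) (N : Subgroup G) : Prop := (N.subgroupOf P).map π = ⊤

theorem cv_of_norm [IsSimpleGroup A] (ho : Odd (Nat.card π.ker)) {Q N : Subgroup G} (hQ : Cv π Q) (hN : N ≤ P)
    (h : P ⊓ Q ≤ normalizer (N : Set G)) (h1 : ¬ Odd (Nat.card N)) : Cv π N := by
  have : ((N.subgroupOf P).map π).Normal := ⟨by
    rintro _ ⟨x, hx, rfl⟩ a
    obtain ⟨q, hq, rfl⟩ := hQ.ge (mem_top a)
    exact ⟨q * x * q⁻¹, conj_mem_of_mem_normalizer (H := N) (h ⟨q.2, hq⟩) hx, by simp⟩⟩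
  refine this.eq_bot_or_eq_top.resolve_left fun e => h1 (ho.of_dvd_nat ?_)
  rw [← Nat.card_congr (subgroupOfEquivOfLe hN).toEquiv]
  exact card_dvd_of_le ((Subgroup.map_eq_bot_iff _).1 e)

theorem mem_of_cv (ho : Odd (Nat.card π.ker)) {N : Subgroup G} (hN : Cv π N) (h : P ≤ normalizer (N : Set G))
    {r : G} (hP : r ∈ P) (h2 : r * r = 1) : r ∈ N := by
  have : (N.subgroupOf P).Normal := ⟨fun x hx g => conj_mem_of_mem_normalizer (H := N) (h g.2) hx⟩
  obtain ⟨n, hn, e⟩ := hN.ge (mem_top (π ⟨r, hP⟩))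
  have hk : n⁻¹ * ⟨r, hP⟩ ∈ π.ker := by rw [MonoidHom.mem_ker, map_mul, map_inv, e, inv_mul_cancel]
  let f := QuotientGroup.mk' (N.subgroupOf P)
  have e1 : f (n⁻¹ * ⟨r, hP⟩) = f ⟨r, hP⟩ := by
    rw [map_mul, map_inv, show f n = 1 from (QuotientGroup.eq_one_iff n).2 hn, inv_one, one_mul]
  have e2 : f ⟨r, hP⟩ ^ Nat.card π.ker = 1 := by
    rw [← e1, ← map_pow, show (n⁻¹ * ⟨r, hP⟩) ^ Nat.card π.ker = 1 from
      congrArg Subtype.val (pow_card_eq_one' (x := (⟨_, hk⟩ : π.ker))), map_one]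
  have e3 : f ⟨r, hP⟩ ^ 2 = 1 := by
    rw [← map_pow, show (⟨r, hP⟩ : P) ^ 2 = 1 from Subtype.ext ((pow_two r).trans h2), map_one]
  have := pow_gcd_eq_one.2 ⟨e2, e3⟩
  rw [Nat.coprime_two_right.2 ho, pow_one] at this
  exact (QuotientGroup.eq_one_iff (N := N.subgroupOf P) ⟨r, hP⟩).1 this

theorem core [Finite G] [IsSimpleGroup A] (hs : Function.Surjective π) (ho : Odd (Nat.card π.ker))
    (hna : ¬ IsMulCommutative A) (halt : ∀ n : ℕ, ¬ Nonempty (A ≃* alternatingGroup (Fin n)))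
    (hO : pPrimeCore 2 G = ⊥) {r : G} (hrP : r ∈ P) (hr : IsTwoCentralInvolution r)
    (hf : ∃! a : G ⧸ P, r • a = a) : P = ⊤ := by
  by_contra hP
  have : Nontrivial (G ⧸ P) := QuotientGroup.nontrivial_iff.2 hP
  have hT := ht_of_central hr hf
  obtain ⟨s⟩ := exists_str hT
  set a : G ⧸ P := QuotientGroup.mk 1
  have hPa : ∀ k, k ∈ P ↔ k • a = a := fun k => by rw [StrEmb.smul_mk_eq_iff]; simp
  have O1 : OO (⊤ : Subgroup G) = ⊥ := by rw [OO, opOf_top, hO]
  have c0 : Cv π P := by rw [Cv, subgroupOf_self]; exact map_top_of_surjective π hs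
  have K1 : ⊤ ⊓ PS G (Set.univ : Set (G ⧸ P)) = ⊥ := by
    have hn : ⊤ ≤ normalizer ((⊤ ⊓ PS G (Set.univ : Set (G ⧸ P)) : Subgroup G) : Set G) := BasP.norm_K hT.le
    refine eq_bot_iff.2 (O1 ▸ le_OO le_top hn (by_contra fun h => ?_))
    have := mem_of_cv ho (cv_of_norm (N := ⊤ ⊓ PS G Set.univ) ho c0 (fun x hx => (hPa x).2 (mem_PS.1 hx.2 a trivial)) (le_top.trans hn) h)
      (le_top.trans hn) hrP (Invol.mul_self_of_orderOf_two hr.1)
    obtain ⟨x, y, hxy⟩ := exists_pair_ne (G ⧸ P)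
    exact hxy (hf.unique (mem_PS.1 this.2 x trivial) (mem_PS.1 this.2 y trivial))
  have B1 : s.B = ⊥ := eq_bot_iff.2 (O1 ▸ le_OO le_top s.blk.norm (by
    have := s.blk.odd
    rwa [K1, relIndex_bot_left] at this))
  have fib : ∀ b c : G ⧸ P, (∀ i, s.π i b = s.π i c) → b = c := fun b c h => by
    obtain ⟨g, hg, e⟩ := s.fib b trivial c trivial h
    rwa [mem_bot.1 (B1.le hg), one_smul] at e
  obtain ⟨i⟩ : Nonempty s.ι := by
    by_contra h
    obtain ⟨x, y, hxy⟩ := exists_pair_ne (G ⧸ P)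
    exact hxy (fib x y fun i => (h ⟨i⟩).elim)
  let f : s.L i →* s.R i := ((s.ρ i).comp (inclusion (s.L_le_N i))).codRestrict _ fun l =>
    mem_map_of_mem _ l.2
  have hf' : ∀ l, (f l : Equiv.Perm (s.X i)) = s.act i l := fun l => (s.act_of_mem _).symm
  let e : s.L i ≃* s.R i := MulEquiv.ofBijective f ⟨(injective_iff_map_eq_one _).2 fun l hl =>
    Subtype.ext (mem_bot.1 (O1 ▸ s.mem_O_of_L l.2 (by rw [← hf', hl]; rfl))), fun x => by
      obtain ⟨l, hl, e⟩ := s.mem_R.1 x.2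
      exact ⟨⟨l, hl⟩, Subtype.ext ((hf' _).trans e)⟩⟩
  have hst : ∀ l : s.L i, l ∈ P.subgroupOf (s.L i) ↔ (e l : Equiv.Perm (s.X i)) (s.π i a) = s.π i a :=
    fun l => by
      rw [mem_subgroupOf, hPa, show (e l : Equiv.Perm (s.X i)) = s.act i l from hf' l,
        ← s.π_smul (s.L_le_N i l.2) trivial]
      refine ⟨fun h => by rw [h], fun h => fib _ _ fun j => ?_⟩
      by_cases hj : j = i
      · exact hj ▸ h
      · exact s.trivL j i hj _ l.2 a trivial
  have key : ¬ Odd (Nat.card (P ⊓ s.L i : Subgroup G)) → Cv π (P ⊓ s.L i) := fun h => by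
    have h1 : Cv π (P ⊓ s.E) := cv_of_norm ho c0 inf_le_left
      ((le_inf (inf_le_left.trans le_normalizer) (le_top.trans s.le_normalizer_E)).trans
        inf_normalizer_le_normalizer_inf) fun e =>
          h (e.of_dvd_nat (card_dvd_of_le (inf_le_inf_left P (s.L_le_E i))))
    exact cv_of_norm ho h1 inf_le_left ((le_inf (inf_le_left.trans le_normalizer)
      (inf_le_right.trans (inf_le_right.trans ((s.E_le_N i).trans inf_le_right)))).trans
        inf_normalizer_le_normalizer_inf) h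
  rcases s.fac i with h | h
  · obtain ⟨S, hS⟩ := h.stab_eq e hst
    obtain ⟨v, hv, v1⟩ := (h.bt.of_equiv e).exists_inv S
    have hv' := ((h.bt.of_equiv e).mem_omega S).1 hv
    set T := (S : Subgroup (s.L i)).map (s.L i).subtype
    have hT : T ≤ P ⊓ s.L i := by
      rintro _ ⟨x, hx, rfl⟩
      exact ⟨hS.ge (le_normalizer hx), x.2⟩
    have T2 : IsPGroup 2 T := S.isPGroup'.map _
    have T1 : ¬ Odd (Nat.card T) := fun e => v1 (Subtype.ext (eq_one_of_two e (mem_map_of_mem _ hv'.1)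
      (isPGroup_iff_mem.1 T2 _ (mem_map_of_mem _ hv'.1))))
    have h1 := key fun e => T1 (e.of_dvd_nat (card_dvd_of_le hT))
    have h2 : Cv π T := cv_of_norm ho h1 (hT.trans inf_le_left) (fun q hq =>
      mem_normalizer_of_forall (by
        rintro _ ⟨x, hx, rfl⟩
        exact mem_map_of_mem _ (conj_mem_of_mem_normalizer (g := (⟨q, hq.2.2⟩ : s.L i))
          (hS.le hq.1) hx))) T1
    have h3 : IsPGroup 2 (⊤ : Subgroup A) := h2 ▸ (T2.comap_subtype (K := P)).map π
    have : Finite A := Finite.of_surjective π hs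
    have := (h3.of_equiv topEquiv).isNilpotent
    exact hna (IsSimpleGroup.comm_iff_isSolvable.2 inferInstance |> fun h => ⟨⟨h⟩⟩)
  · obtain ⟨-, ⟨e'⟩⟩ := h.iso e hst
    have h7 := h.seven
    have : IsSimpleGroup (P.subgroupOf (s.L i)) := by
      have := alternatingGroup.isSimpleGroup (α := Fin (Nat.card (s.X i) - 1)) (by simp; omega)
      exact e'.isSimpleGroup
    have e1 : (P ⊓ s.L i : Subgroup G) ≃* P.subgroupOf (s.L i) :=
      (subgroupOfEquivOfLe inf_le_right).symm.trans (MulEquiv.subgroupCongr (inf_subgroupOf_right _ _))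
    have := e1.isSimpleGroup
    have h1 := key fun e => by
      have : Nontrivial (Fin (Nat.card (s.X i) - 1)) := Fin.nontrivial_iff_two_le.2 (by omega)
      have a1 := two_mul_nat_card_alternatingGroup (α := Fin (Nat.card (s.X i) - 1))
      rw [Nat.card_perm, Nat.card_fin, ← Nat.card_congr (e1.trans e').toEquiv] at a1
      have a2 : Nat.factorial 4 ∣ _ := Nat.factorial_dvd_factorial (show 4 ≤ Nat.card (s.X i) - 1 by omega)
      rw [← a1, show Nat.factorial 4 = 24 from rfl] at a2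
      obtain ⟨k, e⟩ := e
      omega
    let g : (P ⊓ s.L i : Subgroup G) →* A := π.comp (inclusion inf_le_left)
    have g1 : Function.Surjective g := fun x => by
      obtain ⟨y, hy, rfl⟩ := h1.ge (mem_top x)
      exact ⟨⟨y, hy⟩, rfl⟩
    have g2 : Function.Injective g := (g.ker_eq_bot_iff).1 (g.normal_ker.eq_bot_or_eq_top.resolve_right fun e => by
      obtain ⟨x, hx⟩ := exists_ne (1 : A)
      obtain ⟨y, rfl⟩ := g1 x
      exact hx (e.ge (mem_top y)))
    exact halt _ ⟨(MulEquiv.ofBijective g ⟨g2, g1⟩).symm.trans (e1.trans e')⟩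

end HoltM

theorem eq_top_of_uf_mod {G A : Type*} [Group G] [Finite G] [Group A] [IsSimpleGroup A] {P : Subgroup G}
    (π : P →* A) (hs : Function.Surjective π) (ho : Odd (Nat.card π.ker)) (hna : ¬ IsMulCommutative A)
    (halt : ∀ n : ℕ, ¬ Nonempty (A ≃* alternatingGroup (Fin n))) (hO : oddCore G ≤ P) {r : G} (hP : r ∈ P)
    (hr : IsTwoCentralInvolution r) (hf : ∀ g : G, g * r * g⁻¹ ∈ P → g ∈ P) : P = ⊤ := by
  have oO : Odd (Nat.card (oddCore G)) := Core.odd_card_oddCore G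
  have r2 := Invol.mul_self_of_orderOf_two hr.1
  have r1 : r ≠ 1 := fun e => by simpa [e] using hr.1
  let f := QuotientGroup.mk' (oddCore G)
  have hk : f.ker ≤ P := by rwa [QuotientGroup.ker_mk']
  have hsf : Function.Surjective f := QuotientGroup.mk'_surjective _
  have hsφ : Function.Surjective (f.subgroupMap P) := f.subgroupMap_surjective P
  have hle : (f.subgroupMap P).ker ≤ π.ker := by
    have : ((oddCore G).subgroupOf P |>.map π).Normal := Normal.map inferInstance π hs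
    rcases this.eq_bot_or_eq_top with e | e
    · exact fun x hx => (Subgroup.map_eq_bot_iff _).1 e ((QuotientGroup.eq_one_iff x.1).1 (congrArg Subtype.val hx))
    · exact absurd (eq_one_of_two oO (HoltM.mem_of_cv ho e le_normalizer_of_normal hP r2) (two_of_sq r2)) r1
  let π' := (f.subgroupMap P).liftOfSurjective hsφ ⟨π, hle⟩
  have hπ : ∀ x, π' (f.subgroupMap P x) = π x := fun x => (f.subgroupMap P).liftOfRightInverse_comp_apply _ _ _ x
  have hm : ∀ g, f g ∈ P.map f ↔ g ∈ P := fun g => by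
    rw [← mem_comap, comap_map_eq_self hk]
  have := HoltM.core (P := P.map f) (π := π') (fun a => by
      obtain ⟨x, rfl⟩ := hs a
      exact ⟨_, hπ x⟩) (ho.of_dvd_nat ((card_dvd_of_le (K := π.ker.map (f.subgroupMap P)) fun x hx => by
      obtain ⟨y, rfl⟩ := hsφ x
      exact mem_map_of_mem _ ((hπ y).symm.trans hx)).trans (card_map_dvd _ _))) hna halt
    (Core.pPrimeCore_quotient_pPrimeCore 2 G) ((hm r).2 hP) (by
      obtain ⟨-, S, h1, h2⟩ := hr
      refine ⟨orderOf_eq_prime (by rw [← map_pow, pow_two, r2, map_one]) fun e =>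
        r1 (eq_one_of_two oO ((QuotientGroup.eq_one_iff r).1 e) (two_of_sq r2)),
        S.mapSurjective hsf, mem_map_of_mem f h1, ?_⟩
      rintro _ ⟨x, hx, rfl⟩
      rw [← map_mul, h2 x hx, map_mul]) (Holt.uf_quot ((hm r).2 hP) (fun x hx => by
      obtain ⟨g, rfl⟩ := hsf x
      refine (hm g).2 (hf g ((hm _).1 ?_))
      rw [map_mul, map_mul, mem_centralizer_singleton_iff.1 hx, map_inv, mul_inv_cancel_right]
      exact (hm r).2 hP) fun x hx => by
      obtain ⟨g, rfl⟩ := hsf x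
      rw [← map_inv, ← map_mul, ← map_mul, hm] at hx
      exact ⟨f g, (hm g).2 (hf g hx), rfl⟩)
  exact eq_top_iff.2 fun g _ => (hm g).1 (this.ge (mem_top _))

end CfsgLib.SM12
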