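import Mathlib
import Cfsg.Agent.Lib.SM12.Lift
import Cfsg.Agent.Lib.Yos.C1
import Cfsg.Agent.Lib.Yos.C3

/-! Package NCA: fusion in `N(Y)` (plans/SM12.md). -/

set_option autoImplicit false
set_option maxRecDepth 100000
set_option synthInstance.maxSize 4096

namespace CfsgLib.SM12

open Subgroup Cfsg CfsgLib.W2 CfsgLib.W2.TG CfsgLib.Tech CfsgLib.CosetEnum CfsgLib.Yos

variable {G : Type*} [Group G] [Finite G] {σ : G} {φ : NC →* G} {Y : Subgroup G} {δ : ℕ}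

omit [Finite G] in
theorem GN.mem_M (C : GN φ σ Y δ) (a : NC) : φ a ∈ normalizer (Y : Set G) :=
  centralizer_le_normalizer _ (mem_centralizer_iff.2 fun y hy => (C.cY a y hy).symm)

omit [Finite G] in
theorem GN.σ_M (C : GN φ σ Y δ) : σ ∈ normalizer (Y : Set G) :=
  centralizer_le_normalizer _ (mem_centralizer_iff.2 fun y hy => (C.sY y hy).symm)

omit [Finite G] in
/-- an involution with the same image as `φ b` modulo `Y` is `φ b` -/
theorem GN.eq_of_mod (C : GN φ σ Y δ) {t : G} {b : NC} (ht : t * t = 1) (hb : b * b = 1)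
    (h : t * (φ b)⁻¹ ∈ Y) : t = φ b :=
  mul_inv_eq_one.1 (eq_one_of_mul C.odd h (C.cY b _ h) ((two_of_sq hb).map φ)
    (by rw [inv_mul_cancel_right]; exact two_of_sq ht))

omit [Finite G] in
theorem mk_eq_one (g : normalizer (Y : Set G)) :
    QuotientGroup.mk' (Y.subgroupOf (normalizer (Y : Set G))) g = 1 ↔ g.1 ∈ Y :=
  QuotientGroup.eq_one_iff g

theorem GN.quot (C : GN φ σ Y δ) :
    ∃ φ' : NC →* normalizer (Y : Set G) ⧸ Y.subgroupOf (normalizer (Y : Set G)),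
      Ctx φ' (QuotientGroup.mk' _ ⟨σ, C.σ_M⟩) (678 + δ) (716 + δ) ∧
        ∀ a, φ' a = QuotientGroup.mk' _ ⟨φ a, C.mem_M a⟩ :=
  C.desc _ (QuotientGroup.mk'_surjective _) mk_eq_one _ _

theorem GN.lab (hδ : δ < 2) (C : GN φ σ Y δ) (a : NC) (h1 : a * a = 1) (h2 : a ≠ 1) :
    ∃ m ∈ normalizer (Y : Set G), m * φ a * m⁻¹ = φ (if IsZ a then o 1 else o 32) := by
  obtain ⟨φ', C', e⟩ := C.quot
  obtain ⟨c, hc⟩ := isConj_iff.1 (C'.lab hδ a h1 h2)
  obtain ⟨m, rfl⟩ := QuotientGroup.mk'_surjective _ c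
  rw [e, e, ← map_inv, ← map_mul, ← map_mul, ← mul_inv_eq_one, ← map_inv, ← map_mul] at hc
  refine ⟨m, m.2, C.eq_of_mod (by rw [conj_mul, ← map_mul, h1]; simp) ?_
    ((mk_eq_one _).1 hc)⟩
  split_ifs <;> decide +kernel

theorem GN.sylM (hδ : δ < 2) (C : GN φ σ Y δ) : IsSylowIn 2 (T0.map φ) (normalizer (Y : Set G)) := by
  obtain ⟨φ', C', -⟩ := C.quot
  have h1 : Nat.card (T0.map φ) = 1024 := (card_map_of_injective C.inj).trans (card_subG.trans C1a.f4.1)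
  have h2 : T0.map φ ≤ normalizer (Y : Set G) := by rintro _ ⟨a, -, rfl⟩; exact C.mem_M a
  refine ⟨h2, IsPGroup.of_card (n := 10) h1, fun ⟨k, hk⟩ => C'.sylG hδ ?_⟩
  have h3 := card_mul_relIndex' h2
  rw [h1, hk, card_eq_card_quotient_mul_card_subgroup (Y.subgroupOf (normalizer (Y : Set G))),
    Nat.card_congr (subgroupOfEquivOfLe le_normalizer).toEquiv] at h3
  exact ((Nat.coprime_two_left.2 C.odd).pow_left 11).dvd_of_dvd_mul_right ⟨k, by omega⟩

theorem GN.cls (hδ : δ < 2) (C : GN φ σ Y δ) {t : G} (ht : t ∈ normalizer (Y : Set G)) (h2 : orderOf t = 2) :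
    ∃ m ∈ normalizer (Y : Set G), m * t * m⁻¹ = φ (o 32) ∨ m * t * m⁻¹ = φ (o 1) := by
  obtain ⟨g, hg, a, -, e⟩ := (C.sylM hδ).exists_conj_mem ht
    (isPGroup_zpowers_of_pow (k := 1) (by rw [pow_one, sq, sq_of_ord h2]))
  have h3 : orderOf a = 2 := by rw [← orderOf_injective φ C.inj, e, ord_conj, h2]
  obtain ⟨m, hm, e'⟩ := C.lab hδ a (sq_of_ord h3) (ne_one_of_ord h3)
  refine ⟨m * g, mul_mem hm hg, ?_⟩
  rw [show m * g * t * (m * g)⁻¹ = m * (g * t * g⁻¹) * m⁻¹ by group, ← e, e']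
  split_ifs
  exacts [.inr rfl, .inl rfl]

theorem GN.uf (hδ : δ < 2) (C : GN φ σ Y δ) {g : G} (h : g * φ (o 32) * g⁻¹ ∈ normalizer (Y : Set G)) :
    g ∈ normalizer (Y : Set G) := by
  obtain ⟨m, hm, e⟩ := C.cls hδ h (by
    rw [ord_conj, orderOf_injective φ C.inj]; exact ord_two (by decide +kernel) (by decide +kernel))
  rw [show m * (g * φ (o 32) * g⁻¹) * m⁻¹ = m * g * φ (o 32) * (m * g)⁻¹ by group] at e
  exact (mul_mem_cancel_left hm).1 (C.nY (mem_Cx'.2 (e.resolve_right fun e => C.nc (isConj_iff.2 ⟨_, e⟩))))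

theorem GN.sylT (hδ : δ < 2) (C : GN φ σ Y δ) : IsSylowIn 2 (T0.map φ) ⊤ := by
  by_contra h
  have hS := C.sylM hδ
  obtain ⟨R, hR, h2, -, h3⟩ := exists_lt_pgroup_normalizer hS.pgroup le_top h
  exact h2.ne' (hS.eq_of_le hR h2.le fun r hr => C.uf hδ (hS.le (conj_mem_of_mem_normalizer (h3 hr)
    ⟨o 32, mem_T0.2 (by decide +kernel), rfl⟩)))

theorem GN.sylG (hδ : δ < 2) (C : GN φ σ Y δ) : ¬ 2048 ∣ Nat.card G := fun h => by
  have h1 : Nat.card (T0.map φ) = 1024 := (card_map_of_injective C.inj).trans (card_subG.trans C1a.f4.1)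
  refine (C.sylT hδ).not_dvd ?_
  rw [← card_mul_index (T0.map φ), h1] at h
  rw [relIndex_top_right]
  exact Nat.dvd_of_mul_dvd_mul_left (k := 1024) (by omega) h

end CfsgLib.SM12
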