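import Mathlib
import Cfsg.Agent.Lib.SM12.NCa

/-! Package NCB: the quotient by `z` (plans/SM12.md). -/

set_option autoImplicit false
set_option maxRecDepth 100000
set_option synthInstance.maxSize 4096

namespace CfsgLib.SM12

open Subgroup Cfsg CfsgLib.W2 CfsgLib.W2.TG CfsgLib.Tech CfsgLib.CosetEnum CfsgLib.Yos

universe u

variable {G : Type u} [Group G] [Finite G] {σ : G} {φ : NC →* G} {Y : Subgroup G} {δ : ℕ}

theorem exists_quot_z {H : Type u} [Group H] [Finite H] {t : H} (ht : orderOf t = 2) :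
    ∃ (Γ : Type u) (_ : Group Γ) (_ : Finite Γ) (π : Cx t →* Γ), Function.Surjective π ∧
      ∀ k, π k = 1 ↔ k.1 = 1 ∨ k.1 = t := by
  classical
  let z : Cx t := ⟨t, mem_Cx.2 rfl⟩
  have hz' : orderOf z = 2 := by rw [orderOf_mk, ht]
  have zc : zpowers z ≤ center _ := zpowers_le.2 (mem_center_iff.2 fun g => Subtype.ext (mem_Cx.1 g.2))
  have zn : (zpowers z).Normal := ⟨fun x hx g => by
    rw [mem_center_iff.1 (zc hx) g, mul_inv_cancel_right]; exact hx⟩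
  refine ⟨_, _, inferInstance, QuotientGroup.mk' (zpowers z), QuotientGroup.mk'_surjective _, fun k =>
    (QuotientGroup.eq_one_iff k).trans ⟨fun h => ?_, fun h => ?_⟩⟩
  · obtain ⟨i, hi, rfl⟩ := Finset.mem_image.1 (mem_zpowers_iff_mem_range_orderOf.1 h)
    rw [hz', Finset.mem_range] at hi
    interval_cases i
    exacts [Or.inl (by simp), Or.inr (by simp [z])]
  · rcases h with h | h
    exacts [(Subtype.ext h : k = 1) ▸ one_mem _, (Subtype.ext h : k = z) ▸ mem_zpowers z]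

theorem GN.lab' (hδ : δ < 2) (C : GN φ σ Y δ) (a : NC) (h1 : a * a = 1) (h2 : a ≠ 1) :
    IsConj (φ a) (φ (if IsZ a then o 1 else o 32)) :=
  let ⟨m, _, e⟩ := C.lab hδ a h1 h2; isConj_iff.2 ⟨m, e⟩

open C1a in
theorem GN.exists_by (hδ : δ < 2) (C : GN φ σ Y δ) {Γ : Type*} [Group Γ] (π : Cx (φ (o 1)) →* Γ)
    (hπ : Function.Surjective π) (hk : ∀ k, π k = 1 ↔ k.1 = 1 ∨ k.1 = φ (o 1)) :
    ∃ (ψ : NC →* Γ) (Y' : Subgroup Γ) (A : Type u) (_ : Group A) (_ : Finite A)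
      (κ : normalizer (Y' : Set Γ) →* A) (χ : NC →* A), BY ψ Y' κ χ ∧
        ∀ k, π k ∈ normalizer (Y' : Set Γ) → k.1 ∈ normalizer (Y : Set G) := by
  have hz : ∀ a, φ a ∈ Cx (φ (o 1)) := fun a => mem_Cx.2 (by rw [← map_mul, C1a.f3, map_mul])
  obtain ⟨ψ, hψ⟩ : ∃ ψ : NC →* Γ, ∀ a, ψ a = π ⟨φ a, hz a⟩ := ⟨π.comp (φ.codRestrict _ hz), fun _ => rfl⟩
  obtain ⟨-, -, -, -, -, g6, g7, -, g9, -, g11, -⟩ := f4
  have oz : orderOf (φ (o 1)) = 2 := by rw [orderOf_injective φ C.inj, ord_two g6 g7]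
  have hY : Y ≤ Cx (φ (o 1)) := fun y hy => mem_Cx.2 (C.cY _ y hy).symm
  obtain ⟨φ', C', e'⟩ := C.quot
  obtain ⟨A, _, _, π', hπ', hk'⟩ := exists_quot_z (t := φ' (o 1)) (by
    rw [orderOf_injective φ' C'.inj, ord_two g6 g7])
  obtain ⟨χ, B, hχ⟩ := C'.exists_bar hδ π' hπ' hk'
  set Y' := (Y.subgroupOf (Cx (φ (o 1)))).map π with hY'
  have mY : ∀ k, π k ∈ Y' ↔ k.1 ∈ Y ∨ k.1 * (φ (o 1))⁻¹ ∈ Y := fun k => by
    constructor
    · rintro ⟨y, hy, e⟩
      refine ((hk (y⁻¹ * k)).1 (by rw [map_mul, map_inv, e, inv_mul_cancel])).imp (fun e => ?_) fun e => ?_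
      · rw [← inv_mul_eq_one.1 e]; exact hy
      · rw [inv_mul_eq_iff_eq_mul.1 e, mul_inv_cancel_right]; exact hy
    · rintro (h | h)
      · exact ⟨k, h, rfl⟩
      · exact ⟨k * ⟨_, hz (o 1)⟩⁻¹, h, by rw [map_mul, map_inv, (hk ⟨_, hz _⟩).2 (.inr rfl), inv_one, mul_one]⟩
  have hN : ∀ k, π k ∈ normalizer (Y' : Set Γ) ↔ k.1 ∈ normalizer (Y : Set G) := fun k => by
    refine ⟨fun h => mem_normalizer_of_forall fun y hy => ((mY (k * ⟨y, hY hy⟩ * k⁻¹)).1 (by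
      rw [map_mul, map_mul, map_inv]
      exact conj_mem_of_mem_normalizer h ⟨_, hy, rfl⟩)).resolve_right fun e => ?_, fun h => ?_⟩
    · have e1 := orderOf_dvd_iff_pow_eq_one.1 (orderOf_dvd_natCard _ e)
      rw [(show Commute _ _ from mem_Cx.1 (k * ⟨y, hY hy⟩ * k⁻¹).2).inv_right.mul_pow, coe_mul, coe_mul,
        coe_inv, conj_pow, orderOf_dvd_iff_pow_eq_one.1 (orderOf_dvd_natCard _ hy), mul_one, mul_inv_cancel,
        one_mul, inv_pow, inv_eq_one, ← orderOf_dvd_iff_pow_eq_one, oz] at e1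
      exact C.odd.not_two_dvd_nat e1
    · have := Finite.of_surjective π hπ
      refine mem_normalizer_of_forall ?_
      rintro _ ⟨y, hy, rfl⟩
      exact ⟨k * y * k⁻¹, conj_mem_of_mem_normalizer (x := y.1) h hy, by simp only [map_mul, map_inv]⟩
  let H := (normalizer (Y : Set G)).subgroupOf (Cx (φ (o 1)))
  let f0 : H →* normalizer (Y : Set G) := ((Cx (φ (o 1))).subtype.comp H.subtype).codRestrict _ fun h => h.2
  let f1 : H →* normalizer (Y' : Set Γ) := (π.comp H.subtype).codRestrict _ fun h => (hN _).2 h.2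
  let f2 : H →* Cx (φ' (o 1)) := ((QuotientGroup.mk' _).comp f0).codRestrict _ fun h => mem_Cx.2 (by
    rw [e', MonoidHom.comp_apply, ← map_mul, ← map_mul]
    exact congrArg _ (Subtype.ext (mem_Cx.1 h.1.2)))
  have s1 : Function.Surjective f1 := fun g => by
    obtain ⟨k, e⟩ := hπ g.1
    exact ⟨⟨k, (hN k).1 (e ▸ g.2)⟩, Subtype.ext e⟩
  have k2 : ∀ h, π' (f2 h) = 1 ↔ (f1 h).1 ∈ Y' := fun h => by
    refine (hk' _).trans (.trans (or_congr (mk_eq_one _) ?_) (mY h.1).symm)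
    change QuotientGroup.mk' _ (f0 h) = _ ↔ _
    rw [e', ← mul_inv_eq_one, ← map_inv, ← map_mul]
    exact mk_eq_one _
  obtain ⟨κ, hκ⟩ : ∃ κ : normalizer (Y' : Set Γ) →* A, ∀ h, κ (f1 h) = π' (f2 h) :=
    ⟨f1.liftOfSurjective s1 ⟨π'.comp f2, fun h e => (k2 h).2 (by rw [MonoidHom.mem_ker.1 e]; exact one_mem _)⟩,
      fun h => f1.liftOfRightInverse_comp_apply _ _ _ h⟩
  have lift : ∀ {k : Cx (φ (o 1))} {a b}, W2.Rel ψ (π k) a b ↔
      W2.Rel φ k a b ∨ W2.Rel φ k a (b * o 1) := fun {k a b} => by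
    rw [W2.Rel, hψ, hψ, ← map_inv, ← map_mul, ← map_mul, ← inv_mul_eq_one, ← map_inv, ← map_mul,
      ← inv_eq_one, ← map_inv, hk, mul_inv_rev, inv_inv]
    simp only [W2.Rel, map_mul, coe_mul, coe_inv, inv_mul_eq_iff_eq_mul, mul_one]
  refine ⟨ψ, Y', A, _, inferInstance, κ, χ, ⟨fun a => ?_, fun h => C.sylG hδ ?_, fun g hg a b ha hb e => ?_,
    C.odd.of_dvd_nat ((card_map_dvd _ _).trans (Nat.card_congr (subgroupOfEquivOfLe hY).toEquiv).dvd),
    ?_, fun d d1 d2 d3 g hg => ?_, fun a => ?_, fun g => ?_, fun a h => ?_, B⟩, fun k => (hN k).1⟩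
  · rw [hψ, hk, ← φ.map_one, C.inj.eq_iff, C.inj.eq_iff]
  · refine Dvd.dvd.trans ?_ (card_subgroup_dvd_card (Cx (φ (o 1))))
    rw [← card_mul_index π.ker, index_ker, MonoidHom.range_eq_top.2 hπ, card_top]
    refine Nat.mul_dvd_mul (a := 2) (Dvd.dvd.trans (Eq.dvd ?_) (Subgroup.orderOf_dvd_natCard _
      ((hk ⟨_, hz _⟩).2 (.inr rfl)))) h
    rw [orderOf_mk, oz]
  · obtain ⟨k, rfl⟩ := hπ g
    obtain ⟨y, hy, ky⟩ : ∃ y ∈ [96, 97], W2.Rel φ k (o 96) (o y) := (lift.1 (mem_Cx'.1 hg)).elim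
      (fun e => ⟨96, by simp, e⟩) fun e => ⟨97, by simp, e.of_eq rfl g9⟩
    have key : ∀ a b, InN a → a * a = 1 → b ∈ T0 → W2.Rel φ k a b → b ∈ N0 := fun a b ha h1 hb e => by
      rcases ((f5 a).1 ha).2.1 h1 with rfl | h2
      · exact e.uniq C.inj Rel.one rfl ▸ one_mem _
      by_cases h3 : a = 1
      · exact e.uniq C.inj Rel.one h3 ▸ one_mem _
      refine (f5 b).2.1 hb (by_contra fun h4 => C.nc ?_) ?_
      · have e1 := C.lab' hδ a h1 h3
        have e2 := C.lab' hδ b ((e.mul e).uniq C.inj Rel.one h1) fun k => h3 (e.uniq' C.inj Rel.one k)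
        rw [if_pos h2] at e1
        rw [if_neg h4] at e2
        exact (e2.symm.trans e.isConj.symm).trans e1
      · have := (e.mul ky).uniq C.inj (ky.mul e) ((f5 a).1 ha).1
        simp only [List.mem_cons, List.not_mem_nil, or_false] at hy
        rcases hy with rfl | rfl
        exacts [.inl this, .inr this]
    have key' : ∀ b, b ∈ T0 → W2.Rel φ k a b → b ∈ N0 := fun b hb e =>
      ((f5 a).1 ha).2.2.elim (fun h1 => key a b ha h1 hb e) fun h1 =>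
        (mul_mem_cancel_right (H := N0) (g11 y (List.mem_cons_of_mem _ hy)).1).1 (key _ _
          (N0.mul_mem ha (g11 96 (by simp)).1) h1 (T0.mul_mem hb (g11 y (List.mem_cons_of_mem _ hy)).2) (e.mul ky))
    exact (lift.1 e).elim (key' b hb) fun e => (mul_mem_cancel_right (H := N0) (g11 1 (by simp)).1).1
      (key' _ (T0.mul_mem hb (g11 1 (by simp)).2) e)
  · rintro a _ ⟨y, hy, rfl⟩
    rw [hψ, ← map_mul, ← map_mul]
    exact congrArg π (Subtype.ext (C.cY a _ hy))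
  · obtain ⟨k, rfl⟩ := hπ g
    rw [hψ, ← map_inv, ← map_mul, ← map_mul, hN] at hg
    obtain ⟨m, hm, e⟩ := C.lab hδ d d1 d2
    rw [if_neg d3] at e
    refine (hN k).2 ((mul_mem_cancel_right (inv_mem hm)).1 (C.uf hδ ?_))
    rw [← e]
    convert hg using 1
    simp [mul_assoc]
  · obtain ⟨⟨c, hc⟩, rfl⟩ := hπ' a
    obtain ⟨m, rfl⟩ := QuotientGroup.mk'_surjective _ c
    have h1 := mem_Cx'.1 hc
    rw [e', ← map_inv, ← map_mul, ← map_mul, ← mul_inv_eq_one, ← map_inv, ← map_mul, mk_eq_one] at h1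
    exact ⟨f1 ⟨⟨m, mem_Cx'.2 (C.eq_of_mod (by rw [conj_mul, ← map_mul, g6]; simp) g6 h1)⟩, m.2⟩, hκ _⟩
  · obtain ⟨h, rfl⟩ := s1 g
    rw [hκ, k2]
  · have e1 : (⟨ψ a, h⟩ : normalizer (Y' : Set Γ)) = f1 ⟨⟨φ a, hz a⟩, C.mem_M a⟩ := Subtype.ext (hψ a)
    rw [e1, hκ, hχ a (e' a ▸ (f2 ⟨⟨φ a, hz a⟩, C.mem_M a⟩).2)]
    exact congrArg π' (Subtype.ext (e' a))

end CfsgLib.SM12
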