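import Mathlib
import Cfsg.Agent.Lib.SM12.Aut
import Cfsg.Agent.Lib.StdR2.Gen

/-! Package P1A: two copies of `M₁₂` (plans/SM12.md). -/

set_option autoImplicit false
set_option maxRecDepth 100000
set_option synthInstance.maxSize 2000

namespace CfsgLib.SM12

open Subgroup Cfsg CfsgLib.W2 CfsgLib.W2.TG CfsgLib.Tech CfsgLib.CosetEnum CfsgLib.Yos

variable {G : Type*} [Group G] {ι κ : Spor.M12 →* G}
  {φ : HM →* Spor.M12} {σ : Spor.M12} {η : HT →* MulAut Spor.M12} {g h : G} {ψ χ : MulAut Spor.M12}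

theorem Act.mul (a : Act ι g ψ) (b : Act ι h χ) : Act ι (g * h) (ψ * χ) := fun m => by
  rw [MulAut.mul_apply, ← a, ← b]; group

theorem Act.inv (a : Act ι g ψ) : Act ι g⁻¹ ψ⁻¹ := fun m => by
  have := a (ψ⁻¹ m)
  rw [MulAut.apply_inv_self] at this
  rw [← this]; group

theorem Act.uniq (hι : Function.Injective ι) (a : Act ι g ψ) (b : Act ι g χ) : ψ = χ :=
  MulEquiv.ext fun m => hι ((a m).symm.trans (b m))

theorem Act.conj (m : Spor.M12) : Act ι (ι m) (MulAut.conj m) := fun k => by simp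

theorem act_one : Act ι g 1 ↔ g ∈ centralizer (ι.range : Set G) := by
  rw [mem_centralizer_iff]
  exact ⟨fun a _ ⟨m, e⟩ => e ▸ (mul_inv_eq_iff_eq_mul.1 (a m)).symm,
    fun a m => mul_inv_eq_iff_eq_mul.2 (a _ ⟨m, rfl⟩).symm⟩

theorem Act.pow (a : Act ι g ψ) (k : ℕ) : Act ι (g ^ k) (ψ ^ k) := by
  induction k with
  | zero => simpa using act_one.2 (one_mem _)
  | succ k ih => rw [pow_succ, pow_succ]; exact ih.mul a

theorem Act.comm (hι : Function.Injective ι) (a : Act ι g ψ) (b : Act ι h χ) (c : g * h = h * g) :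
    ψ * χ = χ * ψ := (a.mul b).uniq hι (c ▸ b.mul a)

theorem Act.fix (a : Act ι g ψ) {m : Spor.M12} (e : ψ m = m) : ι m ∈ Cx g :=
  mem_Cx.2 (mul_inv_eq_iff_eq_mul.1 ((a m).trans (congrArg ι e))).symm

theorem exists_act (hι : Function.Injective ι) {g : G} (hg : g ∈ normalizer (ι.range : Set G)) :
    ∃ ψ, Act ι g ψ :=
  ⟨(MulAut.congr (ι.ofInjective hι)).symm (ι.range.normalizerMonoidHom ⟨g, hg⟩), fun m => by
    have : ∀ x : ι.range, ι ((ι.ofInjective hι).symm x) = x := fun x => MonoidHom.apply_ofInjective_symm hι x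
    exact (this (ι.range.normalizerMonoidHom ⟨g, hg⟩ (ι.ofInjective hι m))).symm⟩

theorem conj_mem_cent {L : Subgroup G} (hg : g ∈ normalizer (L : Set G)) (hh : h ∈ centralizer (L : Set G)) :
    g * h * g⁻¹ ∈ centralizer (L : Set G) := by
  rw [← mem_normalizer_iff_cj.1 hg, ← cj_centralizer, conj_mem_cj]; exact hh

theorem Act.comm_mem {L : Subgroup G} (a : Act ι g ψ) (hg : g ∈ centralizer (L : Set G)) {m : Spor.M12}
    (hm : ι m ∈ normalizer (L : Set G)) : ι (m * (ψ m)⁻¹) ∈ centralizer (L : Set G) := by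
  have := mul_mem (conj_mem_cent hm hg) (inv_mem hg)
  rwa [map_mul, map_inv, ← a, show ι m * (g * ι m * g⁻¹)⁻¹ = ι m * g * (ι m)⁻¹ * g⁻¹ by group]

/-- The automorphisms induced by a subgroup. -/
def actS (ι : Spor.M12 →* G) (D : Subgroup G) : Subgroup (MulAut Spor.M12) where
  carrier := {ψ | ∃ g ∈ D, Act ι g ψ}
  one_mem' := ⟨1, one_mem _, act_one.2 (one_mem _)⟩
  mul_mem' := fun ⟨_, a, b⟩ ⟨_, c, d⟩ => ⟨_, mul_mem a c, b.mul d⟩
  inv_mem' := fun ⟨_, a, b⟩ => ⟨_, inv_mem a, b.inv⟩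

theorem pg_actS (hι : Function.Injective ι) {D : Subgroup G} (hD : IsPGroup 2 D) : IsPGroup 2 (actS ι D) :=
  isPGroup_iff_mem.2 fun _ ⟨g, a, b⟩ => by
    obtain ⟨k, e⟩ := isPGroup_iff_mem.1 hD g a
    exact ⟨k, (b.pow (2 ^ k)).uniq hι (e ▸ act_one.2 (one_mem _))⟩

theorem Pr.symm (P : Pr ι κ) : Pr κ ι :=
  ⟨P.inj', P.inj, P.n', P.n, fun x a b => P.od x b a, fun k => P.nle (le_centralizer_iff.1 k)⟩

theorem Pr.not_norm (P : Pr ι κ) {r : G} (h1 : r ∈ centralizer (κ.range : Set G))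
    (h2 : r ∈ normalizer (ι.range : Set G)) (rr : r * r = 1) (r1 : r ≠ 1) :
    ¬ ι.range ≤ normalizer (κ.range : Set G) := fun k => by
  obtain ⟨ψ, a⟩ := exists_act P.inj h2
  rcases Mathieu.simple_M12.eq_bot_or_eq_top_of_normal ((centralizer (κ.range : Set G)).comap ι)
    ⟨fun n hn m => by simpa using conj_mem_cent (k ⟨m, rfl⟩) hn⟩ with e | e
  · refine r1 (P.od r (act_one.1 fun m => ?_) h1 (two_of_sq rr))
    have : m * (ψ m)⁻¹ ∈ (⊥ : Subgroup Spor.M12) := e ▸ a.comm_mem h1 (k ⟨m, rfl⟩)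
    rw [a, ← mul_inv_eq_one.1 (mem_bot.1 this)]; rfl
  · exact P.nle fun _ ⟨m, l⟩ => l ▸ (e ▸ mem_top m : m ∈ (centralizer (κ.range : Set G)).comap ι)

namespace P1

theorem f0 : (∀ a : HM, cT (o 1) a = a ∧ a * o 1 = o 1 * a) ∧ (LA [1, 2, 4, 8, 16, 32] fun k =>
    (o k : HM) * o k = 1 ∧ (o k : HM) ≠ 1) ∧ (o 1 : HM) * o 2 = o 3 ∧ cT (o 192) (o 1) = o 1 ∧
    (∀ a, em a ≠ o 192) ∧ (o 4 * o 32 * (o 4 * o 32) : HM) = o 2 ∧ (o 16 * o 2 * (o 16 * o 2) : HM) = o 1 ∧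
    (LA [1, 2, 3, 16] fun k => cT (o 8) (o k) = o k) ∧ em (o 1) = o 1 ∧ em (o 8) = o 8 := by decide +kernel

theorem f1 : ∀ h : HT, h = 1 ∨ h = o 1 ∨ LE [8, 48, 64] fun a =>
    LE [0, 64, 96, 4, 68, 100, 48, 144, 176, 36, 132, 164] fun k => LE [2, 8, 12, 14] fun t =>
      o k * (o a * (cT h (o a))⁻¹) * (o k)⁻¹ = (o t : HM) := by decide +kernel

theorem f2 : LA [12, 14] fun t => (o t * o t : HM) = o 1 ∧ ∀ h : HT, h * h = 1 → cT h (o t) = o t →
    cT h (o 64 * o t * (o 64)⁻¹) = o 64 * o t * (o 64)⁻¹ → h = 1 ∨ h = o 1 := by decide +kernel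

theorem f3 : ∀ h : HT, h * o 8 = o 8 * h → h = 1 ∨ h = o 8 ∨ o 2 * (cT h (o 2))⁻¹ = o 1 ∨
    (LE [1, 2, 3] fun v => h = em (o v) ∨ h * o 8 = em (o v)) ∨
    LE [0, 32, 4, 36, 16, 48, 52, 20] fun k => h = o k * o 192 * (o k)⁻¹ := by decide +kernel

theorem pgS : IsPGroup 2 SM := IsPGroup.of_card (n := 6) (by rw [SM, card_subG]; decide +kernel)

theorem three [Finite G] {T : Subgroup G} (h : 2 < Nat.card T) (a : G) : ∃ u ∈ T, u ≠ 1 ∧ u ≠ a := by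
  by_contra k
  push Not at k
  have : (T : Set G).ncard ≤ 2 := (Set.ncard_le_ncard (t := {1, a}) fun u hu =>
    (em' (u = 1)).elim (fun e => .inr (k u hu e)) .inl).trans ((Set.ncard_insert_le _ _).trans (by simp))
  exact absurd (h.trans_le this) (lt_irrefl _)

theorem exists_cent [Finite G] {T : Subgroup G} (hT : IsPGroup 2 T) (h : 2 < Nat.card T) {r : G} (hr : r ∈ T) :
    ∃ u ∈ T, u * r = r * u ∧ u ≠ 1 ∧ u ≠ r := by
  have : Nontrivial T := Finite.one_lt_card_iff_nontrivial.1 (by omega)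
  obtain ⟨⟨z, hz⟩, z1⟩ := (nontrivial_iff_exists_ne 1).1 hT.center_nontrivial
  have c : ∀ u ∈ T, u * z = z * u := fun u hu => congrArg Subtype.val (mem_center_iff.1 hz ⟨u, hu⟩)
  by_cases e : (z : G) = r
  · obtain ⟨u, a, b⟩ := three h r
    exact ⟨u, a, e ▸ c u a, b⟩
  · exact ⟨z, z.2, (c r hr).symm, fun k => z1 (Subtype.ext (Subtype.ext k)), e⟩

end P1

open P1

theorem AutF.s (A : AutF φ σ η) : W2.Rel φ σ (o 1) (o 2) ∧ W2.Rel φ σ (o 2) (o 3) ∧ W2.Rel φ σ (o 3) (o 1) ∧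
    W2.Rel φ σ (o 8) (o 8) :=
  have a := A.rel (1, 2) (by simp)
  have b := A.rel (2, 3) (by simp)
  ⟨a, b, (a.mul b).of_eq f0.2.2.1 (by decide +kernel), A.rel (8, 8) (by simp)⟩

theorem AutF.not_inner (A : AutF φ σ η) (m : Spor.M12) : η (o 192) ≠ MulAut.conj m := fun e => by
  have h1 := A.act (o 192) (o 1)
  rw [e, f0.2.2.2.1] at h1
  obtain ⟨a, rfl⟩ : m ∈ φ.range := A.range ▸ mem_Cx'.2 h1
  exact f0.2.2.2.2.1 a (A.ηinj ((A.inn a).trans e.symm))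

theorem AutF.conj_inj (A : AutF φ σ η) : Function.Injective (MulAut.conj : Spor.M12 →* _) := by
  rcases Mathieu.simple_M12.eq_bot_or_eq_top_of_normal (MulAut.conj : Spor.M12 →* _).ker inferInstance with e | e
  · exact (MonoidHom.ker_eq_bot_iff _).1 e
  · have : MulAut.conj (φ (o 1)) = 1 := (e ▸ mem_top _ : φ (o 1) ∈ (MulAut.conj : Spor.M12 →* _).ker)
    rw [← A.inn, ← map_one η] at this
    exact absurd (A.ηinj this) (by decide +kernel)

theorem AutF.inv (A : AutF φ σ η) (hι : Function.Injective ι) {k : ℕ} (hk : k ∈ [1, 2, 4, 8, 16, 32]) :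
    ι (φ (o k)) * ι (φ (o k)) = 1 ∧ ι (φ (o k)) ≠ 1 :=
  ⟨by rw [← map_mul, ← map_mul, (f0.2.1 k hk).1, map_one, map_one], fun e =>
    (f0.2.1 k hk).2 (A.inj (hι (by rw [e, map_one, map_one])))⟩

theorem AutF.le (A : AutF φ σ η) {N : Subgroup G} (h1 : ∀ a, ι (φ a) ∈ N) (h2 : ι σ ∈ N) : ι.range ≤ N :=
  fun _ ⟨m, e⟩ => e ▸ ((A.gen (N.comap ι) (fun _ ⟨a, l⟩ => l ▸ h1 a) h2) ▸ mem_top m : m ∈ N.comap ι)

theorem Pr.noz (P : Pr ι κ) (A : AutF φ σ η) (hσ : ι σ ∈ normalizer (κ.range : Set G)) :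
    ∀ v ∈ [1, 2, 3], ι (φ (o v)) ∉ centralizer (κ.range : Set G) := by
  have st : ∀ {p q}, W2.Rel φ σ p q → ι (φ p) ∈ centralizer (κ.range : Set G) →
      ι (φ q) ∈ centralizer (κ.range : Set G) := fun e k => by
    simpa [← show _ = _ from e] using conj_mem_cent hσ k
  have h1 : ι (φ (o 1)) ∉ centralizer (κ.range : Set G) := fun k => by
    obtain ⟨a, b⟩ := A.inv P.inj (k := 1) (by simp)
    exact P.not_norm k (le_normalizer ⟨_, rfl⟩) a b (A.le (fun c => P.n' _ k a b (mem_Cx.2 (by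
      rw [← map_mul, ← map_mul, (f0.1 c).2, map_mul, map_mul]))) hσ)
  simp only [List.forall_mem_cons]
  exact ⟨h1, fun k => h1 (st A.s.2.2.1 (st A.s.2.1 k)), fun k => h1 (st A.s.2.2.1 k), by simp⟩

/-- Two involutions of `L ∩ N(L')` whose commutator does not centralise `L'`. -/
def Wit (ι κ : Spor.M12 →* G) : Prop := ∃ D : Subgroup G, IsPGroup 2 D ∧
  D ≤ ι.range ⊓ normalizer (κ.range : Set G) ∧ ∃ x ∈ D, ∃ y ∈ D, x * x = 1 ∧ y * y = 1 ∧
    x * y * (x * y) ∉ centralizer (κ.range : Set G)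

theorem AutF.wit (A : AutF φ σ η) (hι : Function.Injective ι) {p q r : ℕ} (hp : p ∈ [1, 2, 4, 8, 16, 32])
    (hq : q ∈ [1, 2, 4, 8, 16, 32]) (h1 : ι (φ (o p)) ∈ normalizer (κ.range : Set G))
    (h2 : ι (φ (o q)) ∈ normalizer (κ.range : Set G)) (e : (o p * o q * (o p * o q) : HM) = o r)
    (h3 : ι (φ (o r)) ∉ centralizer (κ.range : Set G)) : Wit ι κ := by
  have m : ∀ k ∈ [1, 2, 4, 8, 16, 32], (o k : HM) ∈ SM := fun k hk => mem_subG.2 (by revert k; decide +kernel)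
  refine ⟨SM.map (ι.comp φ) ⊓ normalizer (κ.range : Set G), (pgS.map _).to_inf_left,
    inf_le_inf_right _ fun _ ⟨a, _, l⟩ => ⟨_, l⟩, _, ⟨⟨_, m p hp, rfl⟩, h1⟩, _, ⟨⟨_, m q hq, rfl⟩, h2⟩,
    (A.inv hι hp).1, (A.inv hι hq).1, ?_⟩
  rwa [← map_mul, ← map_mul, e]

theorem Pr.caseZ (P : Pr ι κ) (A : AutF φ σ η) {r u : G} (r1 : r ∈ centralizer (κ.range : Set G))
    (r2 : r ∈ normalizer (ι.range : Set G)) (rr : r * r = 1) (r0 : r ≠ 1) (ar : Act ι r (η (o 1)))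
    (u1 : u ∈ centralizer (κ.range : Set G)) (au : Act ι u ψ) (c : u * r = r * u) (h1 : ψ ≠ 1)
    (h2 : ψ ≠ η (o 1)) : Wit ι κ ∧ ¬ Wit κ ι := by
  have hH : ∀ a, ι (φ a) ∈ normalizer (κ.range : Set G) := fun a =>
    P.n' r r1 rr r0 (ar.fix (by rw [A.act, (f0.1 a).1]))
  have hσ : ι σ ∉ normalizer (κ.range : Set G) := fun k => P.not_norm r1 r2 rr r0 (A.le hH k)
  have n8 : ι (φ (o 8)) ∉ centralizer (κ.range : Set G) := fun k =>
    hσ (P.n' _ k (A.inv P.inj (by simp)).1 (A.inv P.inj (by simp)).2 (mem_Cx.2 (by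
      rw [← map_mul, A.s.2.2.2.comm, map_mul])))
  have n2 : ι (φ (o 2)) ∉ centralizer (κ.range : Set G) := fun k => by
    have : ι (σ * φ (o 16) * σ⁻¹) ∈ normalizer (κ.range : Set G) :=
      P.n' _ k (A.inv P.inj (by simp)).1 (A.inv P.inj (by simp)).2 (mem_Cx.2 (by
        rw [← map_mul, ← map_mul, ← A.s.1, conj_mul, conj_mul, ← map_mul, (f0.1 _).2, map_mul φ]))
    have e : φ (o 16) * (σ * φ (o 16) * σ⁻¹) = σ := by
      rw [← mul_assoc, ← mul_assoc, A.qinv, ← mul_inv_rev, inv_eq_of_mul_eq_one_right A.s3]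
    exact hσ (by rw [← e, map_mul]; exact mul_mem (hH _) this)
  have zi : η (o 1) = MulAut.conj (φ (o 1)) := by rw [← A.inn, f0.2.2.2.2.2.2.2.2.1]
  have fz : ∀ {x χ}, Act ι x χ → x * ι (φ (o 1)) = ι (φ (o 1)) * x → χ ∈ η.range := fun a e =>
    A.cent _ (P.inj (by rw [← a, e, mul_inv_cancel_right]))
  obtain ⟨h, rfl⟩ : ψ ∈ η.range := A.cent _ (by
    have := au.comm P.inj ar c
    rw [zi] at this
    exact A.conj_inj (MulEquiv.ext fun m => by
      simpa using (DFunLike.congr_fun this (ψ⁻¹ m)).trans (by simp)))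
  refine ⟨A.wit P.inj (by simp) (by simp) (hH _) (hH _) f0.2.2.2.2.2.1 n2, ?_⟩
  rcases f1 h with rfl | rfl | ⟨a, -, k, -, t, ht, e⟩
  · exact absurd (map_one _) h1
  · exact absurd rfl h2
  have cj : ∀ k p, ι (φ p) ∈ centralizer (κ.range : Set G) → ι (φ (k * p * k⁻¹)) ∈ centralizer (κ.range : Set G) :=
    fun k p l => by simpa using conj_mem_cent (hH k) l
  have mt : ι (φ (o t)) ∈ centralizer (κ.range : Set G) := e ▸ cj _ _ (by
    simpa [A.act] using au.comm_mem u1 (hH (o a)))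
  have ht' : t ∈ [12, 14] := by
    simp only [List.mem_cons, List.not_mem_nil, or_false] at ht ⊢
    rcases ht with rfl | rfl | ht
    exacts [absurd mt n2, absurd mt n8, ht]
  rintro ⟨D, -, hD, x, hx, y, hy, xx, yy, k⟩
  have key : ∀ x ∈ D, x * x = 1 → Act ι x 1 ∨ Act ι x (η (o 1)) := fun x hx xx => by
    obtain ⟨χ, a⟩ := exists_act P.inj (hD hx).2
    have fx : ∀ p, ι (φ p) ∈ centralizer (κ.range : Set G) → x * ι (φ p) = ι (φ p) * x := fun p l =>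
      l x (hD hx).1
    obtain ⟨l, rfl⟩ := fz a (fx _ (by rw [← (f2 t ht').1, map_mul, map_mul]; exact mul_mem mt mt))
    have f : ∀ p, ι (φ p) ∈ centralizer (κ.range : Set G) → cT l p = p := fun p k =>
      A.inj (P.inj (by rw [← A.act, ← a, fx p k, mul_inv_cancel_right]))
    rcases (f2 t ht').2 l (A.ηinj (by
      rw [map_mul, map_one]; exact (a.mul a).uniq P.inj (xx ▸ act_one.2 (one_mem _)))) (f _ mt)
      (f _ (cj _ _ mt)) with rfl | rfl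
    exacts [.inl (map_one η ▸ a), .inr a]
  have z2 : η (o 1) * η (o 1) = 1 := (ar.mul ar).uniq P.inj (rr ▸ act_one.2 (one_mem _))
  refine k (act_one.1 ?_)
  rcases key x hx xx with a | a <;> rcases key y hy yy with b | b <;>
    simpa [z2] using (a.mul b).mul (a.mul b)

theorem Pr.caseA (P : Pr ι κ) (A : AutF φ σ η) {r u : G} {h : HT} (r1 : r ∈ centralizer (κ.range : Set G))
    (rr : r * r = 1) (r0 : r ≠ 1) (ar : Act ι r (η (o 8))) (u1 : u ∈ centralizer (κ.range : Set G))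
    (au : Act ι u (η h)) (c : u * r = r * u) (h1 : η h ≠ 1) (h2 : η h ≠ η (o 8)) : Wit ι κ ∧ ¬ Wit κ ι := by
  have hH : ∀ k ∈ [1, 2, 3, 16], ι (φ (o k)) ∈ normalizer (κ.range : Set G) := fun k hk =>
    P.n' r r1 rr r0 (ar.fix (by rw [A.act, f0.2.2.2.2.2.2.2.1 k hk]))
  have hσ : ι σ ∈ normalizer (κ.range : Set G) := P.n' r r1 rr r0 (ar.fix (by
    rw [← f0.2.2.2.2.2.2.2.2.2, A.inn, MulAut.conj_apply, ← A.s.2.2.2.comm, mul_inv_cancel_right]))
  have nz := P.noz A hσ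
  refine ⟨A.wit P.inj (by simp) (by simp) (hH 16 (by simp)) (hH 2 (by simp)) f0.2.2.2.2.2.2.1 (nz 1 (by simp)), ?_⟩
  have nv : ∀ w ∈ centralizer (κ.range : Set G), ∀ v ∈ [1, 2, 3], ¬ Act ι w (η (em (o v))) := fun w hw v hv a => by
    have := a.comm_mem hw hσ
    rw [A.inn, MulAut.conj_apply, show ∀ x, σ * (x * σ * x⁻¹)⁻¹ = σ * x * σ⁻¹ * x⁻¹ from fun x => by group] at this
    simp only [List.mem_cons, List.not_mem_nil, or_false] at hv
    rcases hv with rfl | rfl | rfl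
    · rw [A.s.1, ← map_inv, ← map_mul] at this
      exact nz 3 (by simp) (by convert this using 3; decide +kernel)
    · rw [A.s.2.1, ← map_inv, ← map_mul] at this
      exact nz 1 (by simp) (by convert this using 3; decide +kernel)
    · rw [A.s.2.2.1, ← map_inv, ← map_mul] at this
      exact nz 2 (by simp) (by convert this using 3; decide +kernel)
  rcases f3 h (A.ηinj (by rw [map_mul, map_mul]; exact au.comm P.inj ar c)) with
    rfl | rfl | e | ⟨v, hv, rfl | e⟩ | ⟨k, -, rfl⟩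
  · exact absurd (map_one _) h1
  · exact absurd rfl h2
  · exact absurd (by simpa [← e, A.act] using au.comm_mem u1 (hH 2 (by simp))) (nz 1 (by simp))
  · exact absurd au (nv u u1 v hv)
  · exact absurd (by rw [← e, map_mul]; exact au.mul ar) (nv _ (mul_mem u1 r1) v hv)
  rintro ⟨D, pD, hD, x, hx, y, hy, xx, yy, l⟩
  obtain ⟨ψ, a⟩ := exists_act P.inj (hD hx).2
  obtain ⟨χ, b⟩ := exists_act P.inj (hD hy).2
  have cm := (A.map (η (o k))).sylC _ (pg_actS P.inj pD) (fun _ ⟨d, hd, a⟩ => mem_Cx.2 (by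
    simpa using a.comm P.inj au (u1 d (hD hd).1))) ψ ⟨x, hx, a⟩ χ ⟨y, hy, b⟩
  have e1 : ψ * ψ = 1 := (a.mul a).uniq P.inj (xx ▸ act_one.2 (one_mem _))
  have e2 : χ * χ = 1 := (b.mul b).uniq P.inj (yy ▸ act_one.2 (one_mem _))
  refine l (act_one.1 ?_)
  have := (a.mul b).mul (a.mul b)
  rwa [mul_assoc ψ, ← mul_assoc χ, ← cm, mul_assoc ψ, e2, mul_one, e1] at this

theorem Pr.lemA [Finite G] (P : Pr ι κ) {T : Subgroup G} (hT : IsPGroup 2 T)
    (h1 : T ≤ centralizer (κ.range : Set G) ⊓ normalizer (ι.range : Set G)) (h3 : 2 < Nat.card T) :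
    Wit ι κ ∧ ¬ Wit κ ι := by
  obtain ⟨φ, σ, η, A⟩ := exists_aut
  have ne : ∀ u ∈ T, Act ι u 1 → u = 1 := fun u hu a =>
    P.od u (act_one.1 a) (h1 hu).1 (isPGroup_iff_mem.1 hT u hu)
  let I : Subgroup G :=
    { carrier := {g | ∃ m, Act ι g (MulAut.conj m)}
      one_mem' := ⟨1, by simpa using act_one.2 (one_mem _)⟩
      mul_mem' := fun ⟨m, a⟩ ⟨n, b⟩ => ⟨m * n, by rw [map_mul]; exact a.mul b⟩
      inv_mem' := fun ⟨m, a⟩ => ⟨m⁻¹, by rw [map_inv]; exact a.inv⟩ }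
  obtain ⟨r, ⟨hr, m, ar⟩, r2⟩ := StdR2.exists_inv_of_pgroup (hT.to_inf_left (K := I)) fun e => by
    have k : ∀ w ∈ T, w ∈ I → w = 1 := fun w a b => mem_bot.1 (e ▸ ⟨a, b⟩)
    obtain ⟨u, hu, u1, -⟩ := three h3 1
    obtain ⟨w, hw, w1, w2⟩ := three h3 u
    obtain ⟨ψ, a⟩ := exists_act P.inj (h1 hu).2
    obtain ⟨χ, b⟩ := exists_act P.inj (h1 hw).2
    obtain ⟨m, rfl | rfl⟩ := A.two ψ
    · exact u1 (k u hu ⟨m, a⟩)
    obtain ⟨n, rfl | rfl⟩ := A.two χ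
    · exact w1 (k w hw ⟨n, b⟩)
    exact w2 (mul_inv_eq_one.1 (k _ (mul_mem hw (inv_mem hu)) ⟨n * m⁻¹, by
      convert b.mul a.inv using 1; simp only [map_mul, map_inv]; group⟩))
  have rr := sq_of_ord r2
  have r0 := ne_one_of_ord r2
  obtain ⟨u, hu, c, u1, u2⟩ := exists_cent hT h3 hr
  obtain ⟨ψ, au⟩ := exists_act P.inj (h1 hu).2
  have p1 : ψ ≠ 1 := fun e => u1 (ne u hu (e ▸ au))
  have p2 : ψ ≠ MulAut.conj m := fun e => u2 (mul_inv_eq_one.1 (ne _ (mul_mem hu (inv_mem hr))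
    (by simpa [e] using au.mul ar.inv)))
  obtain ⟨α, k, hk, e⟩ := A.cls _ ((ar.mul ar).uniq P.inj (rr ▸ act_one.2 (one_mem _)))
    fun e => r0 (ne r hr (e ▸ ar))
  have B := A.map α⁻¹
  generalize hη : (MulAut.conj α⁻¹).toMonoidHom.comp η = η' at B
  have e' : η' (o k) = MulAut.conj m := by rw [← hη]; simp [← e, mul_assoc]
  rw [← e'] at ar p2
  simp only [List.mem_cons, List.not_mem_nil, or_false] at hk
  rcases hk with rfl | rfl | rfl
  · exact P.caseZ B (h1 hr).1 (h1 hr).2 rr r0 ar (h1 hu).1 au c p1 p2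
  · obtain ⟨β, hβ, l⟩ := B.sylA _ (pg_actS P.inj (hT.to_inf_left (K := Cx r))) fun _ ⟨d, hd, a⟩ =>
      mem_Cx.2 (a.comm P.inj ar (mem_Cx.1 hd.2))
    obtain ⟨h, eh⟩ := l ψ ⟨u, ⟨hu, mem_Cx.2 c⟩, au⟩
    have C := B.map β⁻¹
    generalize hη' : (MulAut.conj β⁻¹).toMonoidHom.comp η' = η'' at C
    have e1 : η'' (o 8) = η' (o 8) := by rw [← hη']; simp [mul_assoc, ← mem_Cx.1 hβ]
    have e2 : η'' h = ψ := by rw [← hη']; simp [eh, mul_assoc]
    exact P.caseA C (h1 hr).1 rr r0 (e1 ▸ ar) (h1 hu).1 (e2 ▸ au) c (e2 ▸ p1) (e1 ▸ e2 ▸ p2)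
  · exact absurd e' (B.not_inner m)

theorem Pr.small [Finite G] (P : Pr ι κ) {T R : Subgroup G} (hT : IsPGroup 2 T) (hR : IsPGroup 2 R)
    (h1 : T ≤ centralizer (κ.range : Set G) ⊓ normalizer (ι.range : Set G))
    (h2 : R ≤ centralizer (ι.range : Set G) ⊓ normalizer (κ.range : Set G))
    (h3 : 2 < Nat.card T) (h4 : 2 < Nat.card R) : False :=
  (P.symm.lemA hR h2 h4).2 (P.lemA hT h1 h3).1

end CfsgLib.SM12
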