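import Mathlib
import Cfsg.Agent.Lib.SM12.P1a
import Cfsg.Agent.Lib.StdR2.Gen
import Cfsg.Agent.Lib.WD.Cs

/-! Package P1B: the centraliser of the standard subgroup (plans/SM12.md). -/

set_option autoImplicit false
set_option maxRecDepth 100000

namespace CfsgLib.SM12

open Subgroup Cfsg CfsgLib.W2 CfsgLib.W2.TG CfsgLib.Tech CfsgLib.CosetEnum CfsgLib.Yos CfsgLib.StdR2

variable {G : Type*} [Group G] [Finite G] {ι : Spor.M12 →* G} {g r : G}

theorem range_conj (g : G) (ι : Spor.M12 →* G) : ((MulAut.conj g).toMonoidHom.comp ι).range = cj g ι.range :=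
  (MonoidHom.map_range _ _).symm

theorem pr_conj (hι : Function.Injective ι) (hL : IsStandardSubgroup ι.range)
    (hg : g ∉ normalizer (centralizer (ι.range : Set G) : Set G)) :
    Pr ι ((MulAut.conj g).toMonoidHom.comp ι) := by
  obtain ⟨-, hK, hc, hN⟩ := hL
  refine ⟨hι, (MulAut.conj g).injective.comp hι, fun t a b c x hx => ?_, fun t a b c x hx => ?_,
    fun x a b ⟨_, c⟩ => ?_, fun k => hc g (fun e => hg (hN ▸ mem_normalizer_iff_cj.2 e)) ?_⟩
  · exact hN ▸ mem_norm_of_comm hK a (ord_two b c) (mem_Cx.1 hx)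
  · rw [range_conj, ← cj_centralizer] at a
    rw [range_conj, ← cj_normalizer, hN, cj_normalizer]
    exact mem_norm_cj hK a (ord_two b c) (mem_Cx.1 hx)
  · rw [range_conj, ← cj_centralizer] at b
    exact StdR2.eq_one_of_two hK hg a b c
  · rw [range_conj] at k
    exact commutator_eq_bot_iff_le_centralizer.2 k

/-- The Sylow 2-subgroups of `K ^ g ∩ N(K)` have order at most two. -/
theorem exists_R (hι : Function.Injective ι) (hL : IsStandardSubgroup ι.range)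
    (hg : g ∉ normalizer (centralizer (ι.range : Set G) : Set G)) {Q P : Subgroup G} (hQ : IsPGroup 2 Q)
    (h1 : Q ≤ cj g (centralizer (ι.range : Set G)) ⊓ normalizer (centralizer (ι.range : Set G) : Set G))
    (hr : r ∈ Q) (r2 : orderOf r = 2) (hP : IsPGroup 2 P) (h2 : P ≤ centralizer (ι.range : Set G))
    (h3 : r ∈ normalizer (P : Set G)) : (∀ u ∈ Q, u = 1 ∨ u = r) ∧ ∃ R R0 : Subgroup G,
      IsSylowIn 2 R (centralizer (ι.range : Set G)) ∧ P ≤ R ∧ Nat.card R0 ≤ 2 ∧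
        ∀ x ∈ R, x * r = r * x → x ∈ R0 := by
  obtain ⟨T, hT, le⟩ := exists_isSylowIn_ge hQ h1
  have t1 : T ≠ ⊥ := fun e => ne_one_of_ord r2 (mem_bot.1 (e ▸ le hr))
  have c2 : Nat.card T ≤ 2 := by
    obtain ⟨R, R0, hR, -, -, h0, hc, cm, -⟩ := exists_R0 hL.2.1 hg hT t1 IsPGroup.of_bot bot_le
      (by rw [normalizer_eq_top]; exact le_top)
    by_contra k
    refine (pr_conj hι hL hg).small hT.pgroup (hR.pgroup.to_le h0) ?_ (fun x hx => ⟨hR.le (h0 hx), ?_⟩)
      (by omega) (by omega)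
    · rw [range_conj, ← cj_centralizer, hL.2.2.2]; exact hT.le
    · rw [range_conj, ← cj_normalizer, hL.2.2.2, cj_normalizer]
      exact mem_norm_cj hL.2.1 (h1 hr).1 r2 (cm x hx r (le hr))
  have e : zpowers r = T := eq_of_le_of_card_ge (zpowers_le.2 (le hr)) (by rwa [Nat.card_zpowers, r2])
  obtain ⟨R, R0, hR, a, -, -, hc, -, cm⟩ := exists_R0 hL.2.1 hg hT t1 hP h2 (e ▸ zpowers_le.2 h3)
  refine ⟨fun u hu => ?_, R, R0, hR, a, hc ▸ c2, cm r (le hr) r2⟩
  simpa using (WD.mem_sup_t (X := ⊥) (sq_of_ord r2) (by rw [normalizer_eq_top]; trivial) (g := u)).1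
    (by rw [sup_bot_eq, e]; exact le hu) |>.imp_right fun k => by
      rw [eq_inv_of_mul_eq_one_right (mem_bot.1 k), inv_eq_of_mul_eq_one_right (sq_of_ord r2)]

theorem syl_of_inner (hι : Function.Injective ι) (hL : IsStandardSubgroup ι.range)
    (hg : g ∉ normalizer (centralizer (ι.range : Set G) : Set G)) (h1 : r ∈ cj g (centralizer (ι.range : Set G)))
    (h2 : r ∈ normalizer (centralizer (ι.range : Set G) : Set G)) (r2 : orderOf r = 2) {m : Spor.M12}
    (a : Act ι r (MulAut.conj m)) : ∃ R, IsSylowIn 2 R (centralizer (ι.range : Set G)) ∧ Nat.card R ≤ 2 := by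
  obtain ⟨φ, σ, η, A⟩ := exists_aut
  have hk : r * (ι m)⁻¹ ∈ centralizer (ι.range : Set G) := act_one.1 (by simpa using a.mul (Act.conj m).inv)
  generalize ek : r * (ι m)⁻¹ = k at hk
  have er : r = k * ι m := by rw [← ek, inv_mul_cancel_right]
  have cm : ∀ x ∈ centralizer (ι.range : Set G), ι m * x = x * ι m := fun x hx => hx _ ⟨m, rfl⟩
  have mm : m * m = 1 := A.conj_inj (by
    rw [map_mul, map_one]; exact (a.mul a).uniq hι (sq_of_ord r2 ▸ act_one.2 (one_mem _)))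
  have kk : k * k = 1 := by
    have := sq_of_ord r2
    rwa [er, mul_assoc, ← mul_assoc (ι m), cm k hk, mul_assoc, ← map_mul, mm, map_one, mul_one] at this
  have cr : ∀ x ∈ centralizer (ι.range : Set G), x * k = k * x → x * r = r * x := fun x hx e => by
    rw [er, ← mul_assoc, e, mul_assoc, ← cm x hx, mul_assoc]
  obtain ⟨-, R, R0, hR, hP, c, h0⟩ := exists_R hι hL hg (isPGroup_zpowers_of_pow (k := 1) (by
    rw [pow_one, sq, sq_of_ord r2])) (zpowers_le.2 ⟨h1, h2⟩) (mem_zpowers r) r2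
    (isPGroup_zpowers_of_pow (x := k) (k := 1) (by rw [pow_one, sq, kk])) (zpowers_le.2 hk)
    (centralizer_le_normalizer _ (by
      rw [zpowers_eq_closure, centralizer_closure]; exact mem_Cx.2 (cr k hk rfl).symm))
  refine ⟨R, hR, ?_⟩
  by_contra l
  have kR := hP (mem_zpowers k)
  by_cases k1 : k = 1
  · exact l ((card_le_of_le fun x hx => h0 x hx (cr x (hR.le hx) (by simp [k1]))).trans c)
  obtain ⟨u, hu, e, u1, u2⟩ := P1.exists_cent hR.pgroup (by omega) kR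
  have : ({1, k, u} : Set G).ncard ≤ 2 := (Set.ncard_le_ncard (t := R0) (by
    rintro x (rfl | rfl | rfl)
    exacts [one_mem _, h0 _ kR (cr _ hk rfl), h0 _ hu (cr _ (hR.le hu) e)])).trans
      (show (R0 : Set G).ncard ≤ 2 from c)
  rw [Set.ncard_eq_three.2 ⟨1, k, u, Ne.symm k1, u1.symm, u2.symm, rfl⟩] at this
  omega

theorem f_out : (o 32 * (cT (o 192) (o 32))⁻¹ : HM) = o 1 ∧ cT (o 192) (o 2) = o 2 ∧ cT (o 192) (o 1) = o 1 ∧
    (o 2 * (o 3)⁻¹ : HM) = o 1 := by decide +kernel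

theorem syl_two (hι : Function.Injective ι) (hL : IsStandardSubgroup ι.range)
    (hg : g ∉ normalizer (centralizer (ι.range : Set G) : Set G)) (h1 : r ∈ cj g (centralizer (ι.range : Set G)))
    (h2 : r ∈ normalizer (centralizer (ι.range : Set G) : Set G)) (r2 : orderOf r = 2) :
    ∃ R, IsSylowIn 2 R (centralizer (ι.range : Set G)) ∧ Nat.card R ≤ 2 := by
  obtain ⟨φ, σ, η, A⟩ := exists_aut
  have hN := hL.2.2.2
  have rr := sq_of_ord r2
  have r0 := ne_one_of_ord r2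
  obtain ⟨ψ, ar⟩ := exists_act hι (hN ▸ h2)
  obtain ⟨α, k, hk, e⟩ := A.cls ψ ((ar.mul ar).uniq hι (rr ▸ act_one.2 (one_mem _))) fun e =>
    r0 (StdR2.eq_one_of_two hL.2.1 hg (act_one.1 (e ▸ ar)) h1 (j := 1) (by rw [pow_one, sq, rr]))
  have B := A.map α⁻¹
  generalize hη : (MulAut.conj α⁻¹).toMonoidHom.comp η = η' at B
  generalize (α⁻¹).toMonoidHom.comp φ = φ' at B
  generalize α⁻¹ σ = σ' at B
  have e' : η' (o k) = ψ := by rw [← hη]; simp [← e, mul_assoc]
  rw [← e'] at ar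
  simp only [List.mem_cons, List.not_mem_nil, or_false] at hk
  rcases hk with rfl | rfl | rfl
  · exact syl_of_inner hι hL hg h1 h2 r2 (by rw [← B.inn (o 1)]; exact ar)
  · exact syl_of_inner hι hL hg h1 h2 r2 (by rw [← B.inn (o 8)]; exact ar)
  set t := ι (φ' (o 32))
  set z := ι (φ' (o 1)) with hz
  obtain ⟨zz, z0⟩ := B.inv hι (k := 1) (by simp)
  have nr : ∀ m, η' (o 192) m = m → g⁻¹ * ι m * g ∈ normalizer (ι.range : Set G) := fun m e =>
    hN ▸ conj_mem_norm_of_comm hL.2.1 h1 r2 (mem_Cx.1 (ar.fix e))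
  have zr : z * r = r * z := mem_Cx.1 (ar.fix (by rw [B.act, f_out.2.2.1]))
  have tr : t * r * t⁻¹ = z * r := by
    rw [hz, ← f_out.1, map_mul, map_mul, map_inv, map_inv, ← B.act, ← ar, inv_eq_of_mul_eq_one_right rr]
    simp only [mul_inv_rev, inv_eq_of_mul_eq_one_right rr, mul_assoc, rr, mul_one]
    rfl
  have o2 : orderOf (z * r) = 2 := by rw [← tr, ord_conj, r2]
  obtain ⟨χ, a⟩ := exists_act hι (nr _ (by rw [B.act, f_out.2.1]))
  obtain ⟨ω, b⟩ := exists_act hι (nr _ B.cs)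
  have ez : g⁻¹ * z * g = g⁻¹ * ι (φ' (o 2)) * g * (g⁻¹ * ι σ' * g * (g⁻¹ * ι (φ' (o 2)) * g) *
      (g⁻¹ * ι σ' * g)⁻¹)⁻¹ := by
    rw [hz, ← f_out.2.2.2, map_mul, map_inv, ← B.s.2.1]; simp [mul_assoc]
  have c : Act ι (g⁻¹ * (z * r) * g) (χ * (ω * χ * ω⁻¹)⁻¹) := by
    have := (a.mul ((b.mul a).mul b.inv).inv).mul (act_one.2 (mem_cj.1 h1))
    rwa [mul_one, ← ez, show g⁻¹ * z * g * (g⁻¹ * r * g) = g⁻¹ * (z * r) * g by group] at this
  have nm : ∀ β : MulAut Spor.M12, ∀ m, β * MulAut.conj m * β⁻¹ = MulAut.conj (β m) := fun β m =>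
    MulEquiv.ext fun x => by simp
  obtain ⟨m, em⟩ : ∃ m, χ * (ω * χ * ω⁻¹)⁻¹ = MulAut.conj m := by
    obtain ⟨m, rfl | rfl⟩ := B.two χ
    · exact ⟨m * (ω m)⁻¹, by rw [nm, map_mul, map_inv]⟩
    obtain ⟨n, rfl | rfl⟩ := B.two ω
    · refine ⟨m * η' (o 192) n * (η' (o 192) n)⁻¹ * η' (o 192) n * m⁻¹ * n⁻¹, ?_⟩
      simp only [map_mul, map_inv, ← nm]; group
    · refine ⟨m * η' (o 192) n * (η' (o 192) m)⁻¹ * n⁻¹, ?_⟩
      simp only [map_mul, map_inv, ← nm]; group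
  refine syl_of_inner hι hL (g := g⁻¹ * t * g) (fun k => ?_) ?_ ?_ (by simpa using (ord_conj g⁻¹ _).trans o2)
    (em ▸ c)
  · have h3 : z * r ∈ cj g (centralizer (ι.range : Set G)) := by
      have := conj_mem_of_mem_normalizer k (mem_cj.1 h1)
      rw [mem_cj, ← tr]; convert this using 1; group
    have h4 : z ∈ cj g (centralizer (ι.range : Set G)) := (mul_mem_cancel_right h1).1 h3
    have pz : IsPGroup 2 (zpowers z) := isPGroup_zpowers_of_pow (k := 1) (by rw [pow_one, sq, zz])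
    have pr : IsPGroup 2 (zpowers r) := isPGroup_zpowers_of_pow (k := 1) (by rw [pow_one, sq, rr])
    rcases (exists_R hι hL hg (Q := zpowers z ⊔ zpowers r) (pz.to_sup_of_normal_left' pr (zpowers_le.2
      (centralizer_le_normalizer _ (by rw [zpowers_eq_closure, centralizer_closure]; exact mem_Cx.2 zr.symm))))
      (sup_le (zpowers_le.2 ⟨h4, hN ▸ le_normalizer ⟨_, rfl⟩⟩) (zpowers_le.2 ⟨h1, h2⟩))
      (mem_sup_right (mem_zpowers r)) r2 IsPGroup.of_bot bot_le (by rw [normalizer_eq_top]; trivial)).1 z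
      (mem_sup_left (mem_zpowers z)) with e | e
    · exact z0 e
    · exact B.not_inner _ (ar.uniq hι (by rw [← e]; exact Act.conj _))
  · rw [mem_cj, ← tr]; convert mem_cj.1 h1 using 1; group
  · exact conj_mem_norm_of_comm hL.2.1 h1 r2 (by rw [← mul_assoc r, ← zr])

theorem exists_st {G : Type*} [Group G] [Finite G] [IsSimpleGroup G] (hG : ¬ IsMulCommutative G)
    {L : Subgroup G} (hL : IsStandardSubgroup L) (hM : Nonempty (L ≃* Spor.M12)) :
    ∃ (e : G) (ι : Spor.M12 →* G) (Y : Subgroup G), St e ι Y := by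
  obtain ⟨f⟩ := hM
  obtain ⟨ι, hι, rfl⟩ : ∃ ι : Spor.M12 →* G, Function.Injective ι ∧ ι.range = L :=
    ⟨L.subtype.comp f.symm.toMonoidHom, L.subtype_injective.comp f.symm.injective, by
      rw [MonoidHom.range_comp, MonoidHom.range_eq_top.2 f.symm.surjective, ← MonoidHom.range_eq_map,
        range_subtype]⟩
  obtain ⟨φ, σ, η, A⟩ := exists_aut
  have hK := hL.2.1
  obtain ⟨zz, z0⟩ := A.inv hι (k := 1) (by simp)
  have zK : ι (φ (o 1)) ∉ centralizer (ι.range : Set G) := fun k =>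
    z0 (by rw [A.conj_inj (((Act.conj _).uniq hι (act_one.2 k)).trans (map_one _).symm), map_one])
  obtain ⟨e, he, e2⟩ := StrEmb.exists_involution_of_even hK.1
  have nb : ∀ N : Subgroup G, N.Normal → e ∈ N → N = ⊤ := fun N a b =>
    a.eq_bot_or_eq_top.resolve_left fun k => ne_one_of_ord e2 (mem_bot.1 (k ▸ b))
  obtain ⟨g, hg, r, r2, h1, h2⟩ := exists_conj_inv hK (fun k => zK (nb _ k he ▸ mem_top _)) (ord_two zz z0)
    (hL.2.2.2 ▸ le_normalizer ⟨_, rfl⟩) (nb _ normalClosure_normal (subset_normalClosure he) ▸ mem_top _) zK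
  obtain ⟨R, hR, c⟩ := syl_two hι hL hg h1 h2 r2
  have ee := sq_of_ord e2
  have pe : IsPGroup 2 (zpowers e) := isPGroup_zpowers_of_pow (k := 1) (by rw [pow_one, sq, ee])
  have se := hR.of_card_le pe (zpowers_le.2 he) (by rwa [Nat.card_zpowers, e2])
  have ce : ∀ x ∈ Cx e, x ∈ centralizer (zpowers e : Set G) := fun x hx => by
    rwa [zpowers_eq_closure, centralizer_closure]
  obtain ⟨Y, hY, dec⟩ := WD.cs2 (X := Cx e ⊓ centralizer (ι.range : Set G)) (Z := zpowers e)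
    (zpowers_le.2 ⟨mem_Cx.2 rfl, he⟩) pe (fun x hx z hz => (ce x hx.1 z hz).symm) fun x hx ⟨_, k⟩ =>
      zpowers_le.1 (se.le_of_normalizes (isPGroup_zpowers_of_pow k) (zpowers_le.2 hx.2)
        (zpowers_le.2 (centralizer_le_normalizer _ (ce x hx.1))))
  have nL : Cx e ≤ normalizer (ι.range : Set G) := fun x hx => hL.2.2.2 ▸ mem_norm_of_comm hK he e2 (mem_Cx.1 hx)
  refine ⟨e, ι, Y, hι, ee, ne_one_of_ord e2, fun x hx => mem_Cx.2 (he x hx), fun x hx => exists_act hι (nL hx),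
    StrEmb.odd_card_of_forall fun t ht k => ?_, fun y hy => ((hY y).1 hy).1.1,
    fun m y hy => ((hY y).1 hy).1.2 _ ⟨m, rfl⟩, fun x hx => mem_normalizer_of_forall fun y hy => ?_,
    fun x hx k => ?_⟩
  · exact absurd (k ▸ ((hY t).1 ht).2) (by decide)
  · obtain ⟨⟨a, b⟩, c⟩ := (hY y).1 hy
    exact (hY _).2 ⟨⟨(Cx e).mul_mem (mul_mem hx a) (inv_mem hx), conj_mem_cent (nL hx) b⟩, by rwa [ord_conj]⟩
  · obtain ⟨z, hz, y, hy, rfl⟩ := dec x ⟨hx, fun _ ⟨m, l⟩ => l ▸ (k m).symm⟩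
    have cy := mem_Cx.1 ((hY y).1 hy).1.1
    rcases (WD.mem_sup_t (X := ⊥) ee (by rw [normalizer_eq_top]; trivial)).1 (mem_sup_left hz) with l | l
    · exact .inl (by rwa [mem_bot.1 l, one_mul])
    · exact .inr (by rwa [mul_assoc, cy, ← mul_assoc, mul_eq_one_comm.1 (mem_bot.1 l), one_mul])

end CfsgLib.SM12
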